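import Cfsg.Agent.H533.T5.SporDefs
import Cfsg.Agent.OrdDiv.Main

/-!
# The weak pair rows of the sporadic groups and of the Tits group, `p ≥ 5` (helper977, task T5-SP0)
-/

set_option autoImplicit false

namespace Cfsg.Agent.H977.T5Spor

open Cfsg Cfsg.Agent.OrdDiv Cfsg.Agent.H533.T5

universe u

/-- the names of the big cases -/
def L : List (Grp × ℕ) :=
  [(.hs, 5), (.mcl, 5), (.ru, 5), (.co3, 5), (.co2, 5), (.co1, 5), (.ly, 5), (.th, 5), (.hn, 5), (.b, 5),
    (.m, 5), (.m, 7), (.m, 13), (.on, 7), (.he, 7), (.fi24, 7), (.j4, 11)]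

theorem check : ∀ x ∈ spor, x.2 ∣ (Nat.factorial 71) ^ 46 ∧ 2 ∣ x.2 ∧ 2 < x.2 ∧
    ∀ p ∈ [5, 7, 11, 13, 17, 19, 23, 29, 31, 37, 41, 43, 47, 53, 59, 61, 67, 71], p ^ 3 ∣ x.2 → (x.1, p) ∈ L := by
  decide +kernel

theorem mem_primes {p : ℕ} (hp : p.Prime) (h5 : 5 ≤ p) (h : p ≤ 71) :
    p ∈ [5, 7, 11, 13, 17, 19, 23, 29, 31, 37, 41, 43, 47, 53, 59, 61, 67, 71] := by
  interval_cases p <;> first | decide | (exfalso; revert hp; norm_num)

/-- a sporadic group or the Tits group has a name in the list -/
theorem exists_real {K : Type u} [Group K] (h : IsSporadicGroup K ∨ Lie.IsoTits K) : ∃ x ∈ spor, Real x.1 K := by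
  have key : ∀ g : Grp, g ∈ spor.map (fun x => x.1) → Real g K → ∃ x ∈ spor, Real x.1 K := fun g hg hr => by
    obtain ⟨x, hx, rfl⟩ := List.mem_map.1 hg
    exact ⟨x, hx, hr⟩
  rcases h with h | h
  · rcases h with h | h | h | h | h | h | h | h | h | h | h | h | h | h | h | h | h | h | h | h | h | h | h | h | h | h
    · exact key .m11 (by decide) h
    · exact key .m12 (by decide) h
    · exact key .m22 (by decide) h
    · exact key .m23 (by decide) h
    · exact key .m24 (by decide) h
    · exact key .j1 (by decide) h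
    · exact key .j2 (by decide) h
    · exact key .j3 (by decide) h
    · exact key .j4 (by decide) h
    · exact key .co1 (by decide) h
    · exact key .co2 (by decide) h
    · exact key .co3 (by decide) h
    · exact key .mcl (by decide) h
    · exact key .hs (by decide) h
    · exact key .suz (by decide) h
    · exact key .he (by decide) h
    · exact key .ru (by decide) h
    · exact key .on (by decide) h
    · exact key .ly (by decide) h
    · exact key .fi22 (by decide) h
    · exact key .fi23 (by decide) h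
    · exact key .fi24 (by decide) h
    · exact key .hn (by decide) h
    · exact key .th (by decide) h
    · exact key .b (by decide) h
    · exact key .m (by decide) h
  · exact key .tits (by decide) h

theorem not_comm {K : Type u} [Group K] [Finite K] [IsSimpleGroup K] (h2 : 2 ∣ Nat.card K) (h : 2 < Nat.card K) :
    ¬ IsMulCommutative K := by
  intro hc
  have : Fact (Nat.Prime 2) := ⟨Nat.prime_two⟩
  obtain ⟨x, hx⟩ := exists_prime_orderOf_dvd_card' 2 h2
  have hn : (Subgroup.zpowers x).Normal := ⟨fun y hy g => by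
    have h1 : g * y * g⁻¹ = y := by rw [hc.1.1 g y, mul_inv_cancel_right]
    rw [h1]
    exact hy⟩
  rcases hn.eq_bot_or_eq_top with h3 | h3
  · rw [Subgroup.zpowers_eq_bot] at h3
    rw [h3, orderOf_one] at hx
    norm_num at hx
  · have h4 : Nat.card ↥(Subgroup.zpowers x) = 2 := by rw [Nat.card_zpowers, hx]
    rw [h3, Nat.card_congr Subgroup.topEquiv.toEquiv] at h4
    omega

/-- **The rows, from the orders and the automorphisms.** -/
theorem spor_of (T : OrderTable.{u}) (B : SporBig.{u}) {K : Type u} [Group K] [Finite K] [IsSimpleGroup K]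
    (h : IsSporadicGroup K ∨ Lie.IsoTits K) {p : ℕ} (hp : p.Prime) (h5 : 5 ≤ p)
    (hinn : ∀ a : MulAut K, orderOf a = p → ∃ g : K, a = MulAut.conj g) : WRow p K := by
  obtain ⟨x, hx, hr⟩ := exists_real h
  have hc : Nat.card K = x.2 := T.spor K x hx hr
  obtain ⟨h71, h2, h2', hL⟩ := check x hx
  have hna : ¬ IsMulCommutative K := not_comm (hc ▸ h2) (hc ▸ h2')
  by_cases hd : p ^ 3 ∣ Nat.card K
  · rw [hc] at hd
    have hp71 : p ≤ 71 := (hp.dvd_factorial).1 (hp.dvd_of_dvd_pow (((dvd_pow_self p (by norm_num)).trans hd).trans h71))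
    have hm := hL p (mem_primes hp h5 hp71) hd
    have key : ∀ (g : Grp) (r : ℕ), (x.1, p) = (g, r) → (Real g K → WRow r K) → WRow p K := by
      intro g r he hw
      have h1 : x.1 = g := congrArg Prod.fst he
      have h3 : p = r := congrArg Prod.snd he
      rw [h3]
      exact hw (h1 ▸ hr)
    simp only [L, List.mem_cons, List.not_mem_nil, or_false] at hm
    rcases hm with h | h | h | h | h | h | h | h | h | h | h | h | h | h | h | h | h
    · exact key _ _ h (B.hs K)
    · exact key _ _ h (B.mcl K)
    · exact key _ _ h (B.ru K)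
    · exact key _ _ h (B.co3 K)
    · exact key _ _ h (B.co2 K)
    · exact key _ _ h (B.co1 K)
    · exact key _ _ h (B.ly K)
    · exact key _ _ h (B.th K)
    · exact key _ _ h (B.hn K)
    · exact key _ _ h (B.b K)
    · exact key _ _ h fun hm => (B.m K hm).1
    · exact key _ _ h fun hm => (B.m K hm).2.1
    · exact key _ _ h fun hm => (B.m K hm).2.2
    · exact key _ _ h (B.on K)
    · exact key _ _ h (B.he K)
    · exact key _ _ h (B.fi24 K)
    · exact key _ _ h (B.j4 K)
  · refine WRow.of_card hna hp (fun a ha => ?_) hd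
    obtain ⟨g, rfl⟩ := hinn a ha
    exact ⟨g, rfl⟩

end Cfsg.Agent.H977.T5Spor
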