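import Cfsg.Agent.H977.MinusThree

/-!
# The prime graph of `PΩ⁻_{2n}(3)`, `n` odd (helper977, for S3651)

`r` an odd prime dividing `3 ^ n + 1` or `3 ^ (n-1) + 1`: the neighbours of `r` in the prime graph.
-/

set_option autoImplicit false
set_option linter.style.haveILetI false
set_option linter.unusedSectionVars false

namespace Cfsg.Agent.H977.Minus

open Module Cfsg
open Cfsg.Agent.LieClassical.OrthCount Cfsg.Agent.LieClassical.OmegaReindex
open Cfsg.Agent.H377 Cfsg.Agent.H150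
open Cfsg.Agent.LieClassical.OrthForms

/-- the anisotropy condition of the binary form -/
abbrev An {F : Type*} [Field F] (a b : F) : Prop :=
  ∀ z₁ z₂ : F, z₁ ^ 2 + a * z₁ * z₂ + b * z₂ ^ 2 = 0 → z₁ = 0 ∧ z₂ = 0

section

variable {F : Type*} [Field F] [Fintype F] {n : ℕ} {a b : F}

/-- elements of odd order lift to isometries of the same order -/
theorem exists_isom' (hn : 4 ≤ n) (hab : An a b) (g : POmega F (⇑(minusForm (n - 1) F a b)))
    (hg : Odd (orderOf g)) :
    ∃ y : Module.End F ((Fin (n - 1) ⊕ Fin (n - 1)) ⊕ Fin 2 → F),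
      (∀ v, minusForm (n - 1) F a b (y v) = minusForm (n - 1) F a b v) ∧ orderOf y = orderOf g := by
  have hs := H182.Sign.sg_minusForm (F := F) (n - 1) hab
  rw [Nat.sub_add_cancel (by omega)] at hs
  have hR := H182.Cent.rowData_orth hs hn
  obtain ⟨T, rfl⟩ := QuotientGroup.mk_surjective g
  set N := orderOf (T : POmega F (minusForm (n - 1) F a b)) with hN
  have h1 : T ^ N ∈ Subgroup.center (Omega F (minusForm (n - 1) F a b)) := by
    rw [← QuotientGroup.eq_one_iff, QuotientGroup.mk_pow, hN, pow_orderOf_eq_one]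
  have h2 := hR.center_sq _ h1
  obtain ⟨k, hk⟩ := hg
  refine ⟨H182.Cent.rho _ (T ^ (N + 1)), H182.Cent.rho_isometry _ _, ?_⟩
  rw [orderOf_injective _ (H182.Cent.rho_injective _)]
  apply Nat.dvd_antisymm
  · rw [orderOf_dvd_iff_pow_eq_one, ← pow_mul, show (N + 1) * N = (N * 2) * (k + 1) by rw [hk]; ring, pow_mul,
      pow_mul, pow_two, h2, one_pow]
  · have h3 : ((T ^ (N + 1) : Omega F (minusForm (n - 1) F a b)) : POmega F (minusForm (n - 1) F a b)) = T := by
      rw [QuotientGroup.mk_pow, pow_succ, hN, pow_orderOf_eq_one, one_mul]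
    have h4 := orderOf_map_dvd (QuotientGroup.mk' (Subgroup.center (Omega F (minusForm (n - 1) F a b)))) (T ^ (N + 1))
    rw [QuotientGroup.mk'_apply, h3] at h4
    exact h4

theorem exists_isom (hn : 4 ≤ n) (hab : An a b) (g : POmega F (quadFormMinus (n - 1) F a b))
    (hg : Odd (orderOf g)) :
    ∃ y : Module.End F ((Fin (n - 1) ⊕ Fin (n - 1)) ⊕ Fin 2 → F),
      (∀ v, minusForm (n - 1) F a b (y v) = minusForm (n - 1) F a b v) ∧ orderOf y = orderOf g := by
  have h := exists_isom' (F := F) hn hab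
  rw [coe_minusForm] at h
  obtain ⟨y, h1, h2⟩ := h g hg
  exact ⟨y, fun v => by rw [coe_minusForm]; exact h1 v, h2⟩

theorem finrank_space (hn : 4 ≤ n) : finrank F ((Fin (n - 1) ⊕ Fin (n - 1)) ⊕ Fin 2 → F) = 2 * n := by
  simp
  omega

theorem exists_psp (hn : 4 ≤ n) (hab : An a b) (ho : Odd (Nat.card F)) {r s : ℕ} (hr : r.Prime) (hs : s.Prime)
    (hrs : r ≠ s) (hr2 : r ≠ 2) (hs2 : s ≠ 2) (g : POmega F (quadFormMinus (n - 1) F a b))
    (hg : orderOf g = r * s) : ∃ x : PSp n F, orderOf x = r * s := by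
  have hodd : Odd (r * s) := (hr.eq_two_or_odd'.resolve_left hr2).mul (hs.eq_two_or_odd'.resolve_left hs2)
  obtain ⟨y, hy, hyo⟩ := exists_isom hn hab g (by rw [hg]; exact hodd)
  have hsg := H182.Sign.sg_minusForm (F := F) (n - 1) hab
  have hsign : H377.HasSign (⇑(minusForm (n - 1) F a b)) n (-1) := by
    rw [coe_minusForm]
    have := hasSign_quadFormMinus (n - 1) (a := a) (b := b) hab
    rwa [Nat.sub_add_cancel (by omega)] at this
  have hE : H377.Elt F n (-1) (r * s) :=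
    H377.Elt.of (finrank_space hn) hsg.nondeg hsign hy hodd.pos (by rw [hyo, hg])
  obtain ⟨x, hx⟩ := H377.OOdd.exists_odd_tor ho (by omega) hodd hE
  obtain ⟨z, hz⟩ := (Cfsg.Agent.S2474.result (F := F) (by rwa [← Nat.card_eq_fintype_card]) n (by omega) r s hr hs hrs).1
    ⟨x, hx⟩
  exact ⟨z, hz⟩

/-! ### the field with three elements -/

theorem charP_three (hF : Fintype.card F = 3) : CharP F 3 := by
  haveI : Fact (Nat.Prime 3) := ⟨Nat.prime_three⟩
  exact charP_of_card_eq_prime hF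

theorem two_ne (hF : Fintype.card F = 3) : (2 : F) ≠ 0 := by
  haveI := charP_three hF
  intro h
  have h1 : ((2 : ℕ) : F) = 0 := by exact_mod_cast h
  rw [CharP.cast_eq_zero_iff F 3] at h1
  omega

theorem cast_ne (hF : Fintype.card F = 3) {r : ℕ} (hr : r.Prime) (hr3 : r ≠ 3) : (r : F) ≠ 0 := by
  haveI := charP_three hF
  intro h
  rw [CharP.cast_eq_zero_iff F 3] at h
  exact hr3 ((Nat.prime_dvd_prime_iff_eq Nat.prime_three hr).1 h).symm

/-- **no elements of order `3 r`**, `e(r, 3) = 2n` or `2(n-1)` -/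
theorem ne_three_mul (hF : Fintype.card F = 3) (hn : 4 ≤ n) (hab : An a b) {r : ℕ} (hr : r.Prime) (hr2 : r ≠ 2)
    (hr3 : r ≠ 3)
    (hk : orderOf ((Nat.card F : ℕ) : ZMod r) = 2 * n ∨ orderOf ((Nat.card F : ℕ) : ZMod r) = 2 * (n - 1))
    (g : POmega F (quadFormMinus (n - 1) F a b)) : orderOf g ≠ 3 * r := by
  intro hg
  haveI := charP_three hF
  have hodd : Odd (3 * r) := (by decide : Odd 3).mul (hr.eq_two_or_odd'.resolve_left hr2)
  obtain ⟨y, hy, hyo⟩ := exists_isom hn hab g (by rw [hg]; exact hodd)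
  rw [hg] at hyo
  have hsg := H182.Sign.sg_minusForm (F := F) (n - 1) hab
  have hyj : ∀ j, y ^ j = 1 ↔ 3 * r ∣ j := fun j => by rw [← hyo, orderOf_dvd_iff_pow_eq_one]
  have hrF := cast_ne hF hr hr3
  set Q := minusForm (n - 1) F a b with hQ
  have hpow : ∀ j v, Q ((y ^ j) v) = Q v := fun j v => H377.isom_pow hy j v
  have hx : (y ^ 3) ^ r = 1 := by rw [← pow_mul, hyj]
  have hx1 : y ^ 3 ≠ 1 := by
    rw [Ne, hyj]
    intro h
    have h1 := Nat.le_of_dvd (by norm_num) h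
    have := hr.two_le
    omega
  have hu : (y ^ r) ^ 3 = 1 := by rw [← pow_mul, hyj, mul_comm]
  have hu1 : y ^ r ≠ 1 := by
    rw [Ne, hyj]
    intro h
    have h1 := Nat.le_of_dvd hr.pos h
    have := hr.two_le
    omega
  have hnil : IsNilpotent (y ^ r - 1) := by
    refine ⟨3, ?_⟩
    have h3 : ∀ z : Module.End F ((Fin (n - 1) ⊕ Fin (n - 1)) ⊕ Fin 2 → F), (3 : ℕ) • z = 0 := by
      intro z
      have h4 : ((3 : ℕ) : F) = 0 := CharP.cast_eq_zero F 3
      rw [← Nat.cast_smul_eq_nsmul F, h4, zero_smul]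
    have h4 : (y ^ r - 1) ^ 3 = (y ^ r) ^ 3 - (3 : ℕ) • (y ^ r) ^ 2 + (3 : ℕ) • y ^ r - 1 := by
      generalize y ^ r = z
      simp only [pow_succ, pow_zero, one_mul, sub_mul, mul_sub, mul_one]
      abel
    rw [h4, hu, h3, h3]
    simp
  have hcomm : Commute (y ^ 3) (y ^ r) := (Commute.refl y).pow_pow 3 r
  have hxM := (range_inv (x := y ^ 3) (y := y ^ 3) (fun v => rfl)).1
  have h1 := dvd_finrank_of_fpf_submodule hr (y ^ 3) hx _ hxM (fpf_range hrF (y ^ 3) hx)
  have hdim := finrank_space (F := F) hn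
  refine hu1 (unip_eq_one (two_ne hF) Q (fun u hu => hsg.nondeg u hu) hr hrF (y ^ 3) (y ^ r)
    (fun v => LinearMap.congr_fun hcomm.eq v) hx hx1 hnil (hpow 3) (hpow r) ?_ ?_)
  · rcases hk with hk | hk
    · rw [hk] at h1 ⊢
      rw [finrank_range_le_of_dvd hx1 h1 hdim (by omega)]
    · rw [hk] at h1 ⊢
      rw [finrank_range_le_of_dvd hx1 h1 hdim (by omega)]
  · rcases hk with hk | hk
    · left
      rw [hk] at h1
      rw [finrank_range_le_of_dvd hx1 h1 hdim (by omega), hdim]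
    · right
      rw [hk] at h1
      rw [finrank_range_le_of_dvd hx1 h1 hdim (by omega), hdim]
      omega

theorem pow_mod_eight {n : ℕ} (hn : Odd n) : 3 ^ n % 8 = 3 := by
  obtain ⟨k, rfl⟩ := hn
  rw [pow_succ, pow_mul, Nat.mul_mod, Nat.pow_mod]
  norm_num

/-- **no elements of order `2 r`**, `e(r, 3) = 2n` or `2(n-1)` -/
theorem ne_two_mul (hF : Fintype.card F = 3) (hn : 4 ≤ n) (hno : Odd n) (hab : An a b) {r : ℕ} (hr : r.Prime)
    (hr2 : r ≠ 2) (hr3 : r ≠ 3)
    (hk : orderOf ((Nat.card F : ℕ) : ZMod r) = 2 * n ∨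
      (orderOf ((Nat.card F : ℕ) : ZMod r) = 2 * (n - 1) ∧ r ∣ 3 ^ (n - 1) + 1))
    (g : POmega F (quadFormMinus (n - 1) F a b)) : orderOf g ≠ 2 * r := by
  have hF' : Nat.card F = 3 := by rw [Nat.card_eq_fintype_card, hF]
  have hdim := finrank_space (F := F) hn
  have hsign : H377.HasSign (⇑(quadMinus (n - 1) F a b)) n (-1) := by
    rw [coe_quadMinus]
    have := hasSign_quadFormMinus (n - 1) (a := a) (b := b) hab
    rwa [Nat.sub_add_cancel (by omega)] at this
  have hnd := quadMinus_nondegenerate (m := n - 1) (F := F) hab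
  have hs := quadMinus_sing (F := F) (n := n - 1) (by omega) a b
  have hrF := cast_ne hF hr hr3
  revert g
  rw [← coe_quadMinus]
  rcases hk with hk | ⟨hk, hd⟩
  · refine ne_two_mul_full (two_ne hF) (quadMinus (n - 1) F a b) hnd hdim hs hr hr2 hrF (by omega) hk ?_
    intro h8
    have h1 := card_of_hasSign' hdim hsign (one_ne_zero (α := F))
    rw [hF'] at h1
    obtain ⟨c, hc⟩ := h8
    rw [hc] at h1
    obtain ⟨m, rfl⟩ : ∃ m, n = m + 1 := ⟨n - 1, by omega⟩
    have h3 : (8 * c : ℤ) = 3 ^ m * (3 ^ (m + 1) + 1) := by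
      have h4 : (3 : ℤ) * (8 * c) = 3 * (3 ^ m * (3 ^ (m + 1) + 1)) := by
        push_cast at h1
        rw [h1]
        ring
      linarith
    have h5 : 8 * c = 3 ^ m * (3 ^ (m + 1) + 1) := by exact_mod_cast h3
    have h6 := pow_mod_eight hno
    have h7 : 3 ^ m % 2 = 1 := by
      rw [Nat.pow_mod]; norm_num
    obtain ⟨u, hu⟩ : ∃ u, 3 ^ m = 2 * u + 1 := ⟨3 ^ m / 2, by omega⟩
    obtain ⟨v, hv⟩ : ∃ v, 3 ^ (m + 1) = 8 * v + 3 := ⟨3 ^ (m + 1) / 8, by omega⟩
    rw [hu, hv] at h5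
    have h9 : (2 * u + 1) * (8 * v + 3 + 1) = 8 * ((2 * u + 1) * v + u) + 4 := by ring
    omega
  · obtain ⟨t, ht⟩ := hno
    refine gen_partial_irr (two_ne hF) (quadMinus (n - 1) F a b) hnd hdim hs hr hr2 hrF (by omega)
      (Or.inr rfl) hsign hk ?_ ?_ ?_ ?_
    · rw [hF']; exact hd
    · rw [hF', show n - 1 = 2 * t by omega, pow_mul, Nat.pow_mod]
      norm_num
    · rw [hF', ht]
      have h6 : (4 : ℤ) ∣ ((3 : ℤ) ^ 2) ^ t - 1 := by
        have := sub_dvd_pow_sub_pow ((3 : ℤ) ^ 2) 1 t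
        rw [one_pow] at this
        exact (by norm_num : (4 : ℤ) ∣ 3 ^ 2 - 1).trans this
      obtain ⟨c, hc⟩ := h6
      refine ⟨3 * c + 1, ?_⟩
      rw [Nat.cast_ofNat, pow_succ, pow_mul]
      linear_combination 3 * hc
    · rw [hF']
      norm_num

end

end Cfsg.Agent.H977.Minus
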