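import Cfsg.Agent.OrdCrit.Main
import Cfsg.Agent.H977.OrdArith

/-!
# `|X| < |X|_p^3` and `|X|^3 < |X|_p^8` for groups of Lie type in characteristic `p` (helper977)

`Both p n` : `n < |n|_p ^ 3` and `n ^ 3 < |n|_p ^ 8`.
* `both_*` : every family other than `PSL_2`;
* `psl_two` : `|PSL_2(q)| < q^3` and the `p`-part of its order is `q`.
-/

set_option autoImplicit false

namespace Cfsg.Agent.H977.LieOrd

open Finset Cfsg Cfsg.Agent.H977.OrdArith Cfsg.Agent.OrdCrit

/-- both bounds -/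
def Both (p n : ℕ) : Prop := n < p ^ (3 * n.factorization p) ∧ n ^ 3 < p ^ (8 * n.factorization p)

section families

variable {F : Type} [Field F] [Fintype F] {p : ℕ}

theorem half (m : ℕ) : 2 * ((m + 1) * (m + 1 - 1) / 2) = (m + 1) * m := by
  have h := (Nat.even_mul_pred_self (m + 1)).two_dvd
  rw [Nat.mul_div_cancel' h, Nat.add_sub_cancel]

theorem psl_eq (hp : p.Prime) [CharP F p] (m : ℕ) :
    Nat.gcd (m + 2) (Fintype.card F - 1) * Nat.card (Matrix.ProjectiveSpecialLinearGroup (Fin (m + 2)) F) =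
      Fintype.card F ^ ((m + 2) * (m + 2 - 1) / 2) * ∏ i ∈ range (m + 1), (Fintype.card F ^ (i + 1 + 1) - 1) := by
  obtain ⟨k, hk, hq⟩ := exists_pow (F := F) hp
  have hq2 := two_le hp hk hq
  have h := S0243.result (F := F) rfl (m + 2) (by omega)
  rw [prod_gl, Finset.prod_range_succ', zero_add, pow_one, mul_left_comm, ← mul_assoc (Fintype.card F ^ _),
    mul_comm _ (Fintype.card F - 1)] at h
  exact Nat.eq_of_mul_eq_mul_left (show 0 < Fintype.card F - 1 by omega) h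

theorem both_psl (hp : p.Prime) [CharP F p] {n : ℕ} (hn : 3 ≤ n) :
    Both p (Nat.card (Matrix.ProjectiveSpecialLinearGroup (Fin n) F)) := by
  obtain ⟨k, hk, hq⟩ := exists_pow (F := F) hp
  have hq2 := two_le hp hk hq
  obtain ⟨m, rfl⟩ := Nat.exists_eq_add_of_le' hn
  refine both_of hp hk hq (Nat.Coprime.coprime_dvd_left (Nat.gcd_dvd_right _ _) (coprime_sub hp hk hq))
    (psl_eq (F := F) hp (m + 1)) (OrdArith.lin_lt hq2 (m + 1)) Nat.card_pos.ne' ?_
  have h1 := two_mul_ex (m + 1 + 1)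
  have h2 := half (m + 2)
  have h3 : m + 1 + 2 = m + 2 + 1 := by omega
  rw [h3]
  nlinarith

theorem psl_two (hp : p.Prime) [CharP F p] :
    Nat.card (Matrix.ProjectiveSpecialLinearGroup (Fin 2) F) <
        p ^ (3 * (Nat.card (Matrix.ProjectiveSpecialLinearGroup (Fin 2) F)).factorization p) ∧
      Fintype.card F = p ^ (Nat.card (Matrix.ProjectiveSpecialLinearGroup (Fin 2) F)).factorization p := by
  obtain ⟨k, hk, hq⟩ := exists_pow (F := F) hp
  have hq2 := two_le hp hk hq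
  have h := psl_eq (F := F) hp 0
  rw [zero_add, Finset.prod_range_one] at h
  refine ⟨?_, ?_⟩
  · have h1 := OrdCrit.psl (F := F) hp (le_refl 2)
    rwa [← pow_mul, mul_comm] at h1
  · have h2 : ¬ p ∣ Fintype.card F ^ (0 + 1 + 1) - 1 := by
      intro h3
      have h4 : p ∣ Fintype.card F ^ (0 + 1 + 1) := by
        rw [hq]
        exact (dvd_pow_self p hk).trans (dvd_pow_self _ (by norm_num))
      have h5 : 1 ≤ Fintype.card F ^ (0 + 1 + 1) := Nat.one_le_pow _ _ (by omega)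
      have h6 : p ∣ Fintype.card F ^ (0 + 1 + 1) - (Fintype.card F ^ (0 + 1 + 1) - 1) := Nat.dvd_sub h4 h3
      rw [Nat.sub_sub_self h5] at h6
      exact hp.one_lt.ne' (Nat.dvd_one.1 h6)
    have h7 := proj_eq hp hq
      (Nat.Coprime.coprime_dvd_left (Nat.gcd_dvd_right 2 _) (coprime_sub hp hk hq)) h2 h Nat.card_pos.ne'
    rw [h7]
    norm_num

theorem both_psu (hp : p.Prime) [CharP F p] {n q : ℕ} (hF : Fintype.card F = q ^ 2) (hn : 3 ≤ n) :
    Both p (Nat.card (PSU n F q)) := by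
  obtain ⟨k, hk, hq⟩ := root_pow hp (by norm_num) (exists_pow (F := F) hp) hF
  have hq2 := two_le hp hk hq
  have h := S0280.result (F := F) hF n (by omega)
  obtain ⟨m, rfl⟩ := Nat.exists_eq_add_of_le' hn
  rw [Finset.prod_range_succ', if_pos (by decide), zero_add, pow_one, mul_left_comm, ← mul_assoc (q ^ _),
    mul_comm _ (q + 1)] at h
  have h' := Nat.eq_of_mul_eq_mul_left (show 0 < q + 1 by omega) h
  refine both_of hp hk hq (Nat.Coprime.coprime_dvd_left (Nat.gcd_dvd_right _ _) (coprime_add hp hk hq))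
    h' (OrdArith.uni_lt hq2 (m + 1)) Nat.card_pos.ne' ?_
  have h1 := two_mul_ex (m + 1 + 1)
  have h2 := half (m + 2)
  have h3 : m + 3 = m + 2 + 1 := by omega
  rw [h3]
  nlinarith

theorem both_psp (hp : p.Prime) [CharP F p] {m : ℕ} (hm : 2 ≤ m) : Both p (Nat.card (PSp m F)) := by
  obtain ⟨k, hk, hq⟩ := exists_pow (F := F) hp
  have hq2 := two_le hp hk hq
  have h1 := S0245.result (F := F) rfl m
  have h2 := S0246.result (F := F) rfl m (by omega)
  have h3 := Subgroup.card_mul_index (Subgroup.center ↥(Matrix.symplecticGroup (Fin m) F))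
  rw [h1, h2] at h3
  refine both_of hp hk hq (Nat.Coprime.coprime_dvd_left (Nat.gcd_dvd_right _ _) (coprime_sub hp hk hq))
    h3 (prod_lt hq2 (by omega)) Nat.card_pos.ne' ?_
  nlinarith

theorem both_pomegaOdd (hp : p.Prime) (hp2 : p ≠ 2) [CharP F p] {m : ℕ} (hm : 3 ≤ m)
    (ho : Odd (Fintype.card F)) (h0 : Nat.card (POmega F (quadFormOdd m F)) ≠ 0) :
    Both p (Nat.card (POmega F (quadFormOdd m F))) := by
  obtain ⟨k, hk, hq⟩ := exists_pow (F := F) hp
  have hq2 := two_le hp hk hq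
  refine both_of hp hk hq ((Nat.coprime_primes Nat.prime_two hp).2 fun h => hp2 h.symm)
    (S0292.result (F := F) rfl ho m hm) (prod_lt hq2 (by omega)) h0 ?_
  nlinarith

theorem both_pomegaPlus (hp : p.Prime) [CharP F p] {m : ℕ} (hm : 4 ≤ m)
    (h0 : Nat.card (POmega F (quadFormPlus m F)) ≠ 0) : Both p (Nat.card (POmega F (quadFormPlus m F))) := by
  obtain ⟨k, hk, hq⟩ := exists_pow (F := F) hp
  have hq2 := two_le hp hk hq
  have h1 := S0293.result (F := F) rfl m hm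
  have hqm : 1 < Fintype.card F ^ m := Nat.one_lt_pow (by omega) (by omega)
  rw [mul_assoc] at h1
  have hr : (Fintype.card F ^ m - 1) * ∏ i ∈ range (m - 1), (Fintype.card F ^ (2 * (i + 1)) - 1) <
      Fintype.card F ^ (m + (m - 1) * (m - 1 + 1)) := by
    rw [pow_add]
    calc _ ≤ (Fintype.card F ^ m - 1) * Fintype.card F ^ ((m - 1) * (m - 1 + 1)) :=
          Nat.mul_le_mul_left _ (prod_le (m - 1))
      _ < _ := Nat.mul_lt_mul_of_pos_right (by omega) (pow_pos (by omega) _)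
  refine both_of hp hk hq (Nat.Coprime.coprime_dvd_left (Nat.gcd_dvd_right _ _)
    (coprime_pow_sub m (by omega) hp hk hq)) h1 hr h0 ?_
  obtain ⟨j, rfl⟩ := Nat.exists_eq_add_of_le' hm
  have : j + 4 - 1 = j + 3 := by omega
  rw [this]
  nlinarith

theorem both_pomegaMinus (hp : p.Prime) [CharP F p] {m : ℕ} (hm : 4 ≤ m) (a b : F)
    (hab : ∀ z₁ z₂ : F, z₁ ^ 2 + a * z₁ * z₂ + b * z₂ ^ 2 = 0 → z₁ = 0 ∧ z₂ = 0)
    (h0 : Nat.card (POmega F (quadFormMinus (m - 1) F a b)) ≠ 0) :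
    Both p (Nat.card (POmega F (quadFormMinus (m - 1) F a b))) := by
  obtain ⟨k, hk, hq⟩ := exists_pow (F := F) hp
  have hq2 := two_le hp hk hq
  have h1 := S0294.result (F := F) rfl m hm a b hab
  have hqm : 1 < Fintype.card F ^ m := Nat.one_lt_pow (by omega) (by omega)
  rw [mul_assoc] at h1
  have hr : (Fintype.card F ^ m + 1) * ∏ i ∈ range (m - 1), (Fintype.card F ^ (2 * (i + 1)) - 1) <
      Fintype.card F ^ (m + 1 + (m - 1) * (m - 1 + 1)) := by
    rw [pow_add, pow_succ]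
    have h2 : Fintype.card F ^ m + 1 < Fintype.card F ^ m * Fintype.card F := by nlinarith
    calc _ ≤ (Fintype.card F ^ m + 1) * Fintype.card F ^ ((m - 1) * (m - 1 + 1)) :=
          Nat.mul_le_mul_left _ (prod_le (m - 1))
      _ < _ := Nat.mul_lt_mul_of_pos_right h2 (pow_pos (by omega) _)
  refine both_of hp hk hq (Nat.Coprime.coprime_dvd_left (Nat.gcd_dvd_right _ _)
    (coprime_pow_add m (by omega) hp hk hq)) h1 hr h0 ?_
  obtain ⟨j, rfl⟩ := Nat.exists_eq_add_of_le' hm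
  have : j + 4 - 1 = j + 3 := by omega
  rw [this]
  nlinarith

theorem both_g2 (hp : p.Prime) [CharP F p] : Both p (Nat.card ↥(Lie.chevG2.group F)) := by
  obtain ⟨k, hk, hq⟩ := exists_pow (F := F) hp
  have hq2 := two_le hp hk hq
  have h1 := S1059.result (F := F) rfl
  rw [mul_assoc, ← one_mul (Nat.card _)] at h1
  refine both_of (M := 9) hp hk hq (Nat.coprime_one_left p) h1 ?_ Nat.card_pos.ne' (by norm_num)
  set q := Fintype.card F
  calc _ ≤ q ^ 2 * q ^ 6 := by gcongr <;> exact Nat.sub_le _ _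
    _ = q ^ 8 := by ring
    _ < q ^ 9 := Nat.pow_lt_pow_right (by omega) (by norm_num)

theorem both_f4 (hp : p.Prime) [CharP F p] : Both p (Nat.card ↥(Lie.chevF4.group F)) := by
  obtain ⟨k, hk, hq⟩ := exists_pow (F := F) hp
  have hq2 := two_le hp hk hq
  have h1 := S1062.result (F := F) rfl
  rw [mul_assoc, mul_assoc, mul_assoc, ← one_mul (Nat.card _)] at h1
  refine both_of (M := 29) hp hk hq (Nat.coprime_one_left p) h1 ?_ Nat.card_pos.ne' (by norm_num)
  set q := Fintype.card F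
  calc _ ≤ q ^ 2 * (q ^ 6 * (q ^ 8 * q ^ 12)) := by gcongr <;> exact Nat.sub_le _ _
    _ = q ^ 28 := by ring
    _ < q ^ 29 := Nat.pow_lt_pow_right (by omega) (by norm_num)

theorem both_e6 (hp : p.Prime) [CharP F p] : Both p (Nat.card ↥(Lie.chevE6.group F)) := by
  obtain ⟨k, hk, hq⟩ := exists_pow (F := F) hp
  have hq2 := two_le hp hk hq
  have h1 := S1063.result (F := F) rfl
  rw [mul_assoc, mul_assoc, mul_assoc, mul_assoc, mul_assoc] at h1
  refine both_of (M := 43) hp hk hq (Nat.Coprime.coprime_dvd_left (Nat.gcd_dvd_right _ _)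
    (coprime_sub hp hk hq)) h1 ?_ Nat.card_pos.ne' (by norm_num)
  set q := Fintype.card F
  calc _ ≤ q ^ 2 * (q ^ 5 * (q ^ 6 * (q ^ 8 * (q ^ 9 * q ^ 12)))) := by gcongr <;> exact Nat.sub_le _ _
    _ = q ^ 42 := by ring
    _ < q ^ 43 := Nat.pow_lt_pow_right (by omega) (by norm_num)

theorem both_e7 (hp : p.Prime) [CharP F p] : Both p (Nat.card ↥(Lie.chevE7.group F)) := by
  obtain ⟨k, hk, hq⟩ := exists_pow (F := F) hp
  have hq2 := two_le hp hk hq
  have h1 := S1064.result (F := F) rfl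
  rw [mul_assoc, mul_assoc, mul_assoc, mul_assoc, mul_assoc, mul_assoc] at h1
  refine both_of (M := 71) hp hk hq (Nat.Coprime.coprime_dvd_left (Nat.gcd_dvd_right _ _)
    (coprime_sub hp hk hq)) h1 ?_ Nat.card_pos.ne' (by norm_num)
  set q := Fintype.card F
  calc _ ≤ q ^ 2 * (q ^ 6 * (q ^ 8 * (q ^ 10 * (q ^ 12 * (q ^ 14 * q ^ 18))))) := by
        gcongr <;> exact Nat.sub_le _ _
    _ = q ^ 70 := by ring
    _ < q ^ 71 := Nat.pow_lt_pow_right (by omega) (by norm_num)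

theorem both_e8 (hp : p.Prime) [CharP F p] : Both p (Nat.card ↥(Lie.chevE8.group F)) := by
  obtain ⟨k, hk, hq⟩ := exists_pow (F := F) hp
  have hq2 := two_le hp hk hq
  have h1 := S1065.result (F := F) rfl
  rw [mul_assoc, mul_assoc, mul_assoc, mul_assoc, mul_assoc, mul_assoc, mul_assoc,
    ← one_mul (Nat.card _)] at h1
  refine both_of (M := 129) hp hk hq (Nat.coprime_one_left p) h1 ?_ Nat.card_pos.ne' (by norm_num)
  set q := Fintype.card F
  calc _ ≤ q ^ 2 * (q ^ 8 * (q ^ 12 * (q ^ 14 * (q ^ 18 * (q ^ 20 * (q ^ 24 * q ^ 30)))))) := by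
        gcongr <;> exact Nat.sub_le _ _
    _ = q ^ 128 := by ring
    _ < q ^ 129 := Nat.pow_lt_pow_right (by omega) (by norm_num)

theorem succ_le_pow {q : ℕ} (hq : 2 ≤ q) (a : ℕ) : q ^ a + 1 ≤ q ^ (a + 1) := by
  have : 1 ≤ q ^ a := Nat.one_le_pow _ _ (by omega)
  rw [pow_succ]; nlinarith

theorem both_twE6 (hp : p.Prime) [CharP F p] {q : ℕ} (hpp : IsPrimePow q) (hF : Fintype.card F = q ^ 2) :
    Both p (Nat.card ↥(Lie.twistedE6 F q)) := by
  obtain ⟨k, hk, hq⟩ := root_pow hp (by norm_num) (exists_pow (F := F) hp) hF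
  have hq2 := two_le hp hk hq
  have h1 := S1066.result hpp hF
  rw [mul_assoc, mul_assoc, mul_assoc, mul_assoc, mul_assoc] at h1
  refine both_of (M := 45) hp hk hq (Nat.Coprime.coprime_dvd_left (Nat.gcd_dvd_right _ _)
    (coprime_add hp hk hq)) h1 ?_ Nat.card_pos.ne' (by norm_num)
  have h5 := succ_le_pow hq2 5
  have h9 := succ_le_pow hq2 9
  calc _ ≤ q ^ 2 * (q ^ 6 * (q ^ 6 * (q ^ 8 * (q ^ 10 * q ^ 12)))) := by
        gcongr <;> exact Nat.sub_le _ _
    _ = q ^ 44 := by ring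
    _ < q ^ 45 := Nat.pow_lt_pow_right (by omega) (by norm_num)

theorem both_twD4 (hp : p.Prime) [CharP F p] {q : ℕ} (hpp : IsPrimePow q) (hF : Fintype.card F = q ^ 3) :
    Both p (Nat.card ↥(Lie.twistedD4 F q)) := by
  obtain ⟨k, hk, hq⟩ := root_pow hp (by norm_num) (exists_pow (F := F) hp) hF
  have hq2 := two_le hp hk hq
  have h1 := S1067.result hpp hF
  rw [mul_assoc, mul_assoc, ← one_mul (Nat.card _)] at h1
  refine both_of (M := 19) hp hk hq (Nat.coprime_one_left p) h1 ?_ Nat.card_pos.ne' (by norm_num)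
  have h8 : q ^ 8 + q ^ 4 + 1 ≤ q ^ 10 := by
    have h4 : 1 ≤ q ^ 4 := Nat.one_le_pow _ _ (by omega)
    have e8 : q ^ 8 = q ^ 4 * q ^ 4 := by ring
    have e10 : q ^ 10 = q ^ 4 * q ^ 4 * (q * q) := by ring
    rw [e8, e10]
    have hqq : 4 ≤ q * q := Nat.mul_le_mul hq2 hq2
    nlinarith [Nat.mul_le_mul h4 h4]
  calc _ ≤ q ^ 2 * (q ^ 6 * q ^ 10) := by gcongr <;> exact Nat.sub_le _ _
    _ = q ^ 18 := by ring
    _ < q ^ 19 := Nat.pow_lt_pow_right (by omega) (by norm_num)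

end families

theorem two_le_pow_odd {p : ℕ} (hp : p.Prime) (m : ℕ) : 2 ≤ p ^ (2 * m + 1) :=
  hp.two_le.trans (Nat.le_self_pow (by omega) p)

theorem both_ree {K : Type} [Field K] [Fintype K] {m : ℕ} (hK : Fintype.card K = 3 ^ (2 * m + 1)) :
    Both 3 (Nat.card ↥(Lie.twistedG2 K (3 ^ m))) := by
  have h1 := S1069.result hK
  have hq2 := two_le_pow_odd Nat.prime_three m
  rw [mul_assoc, ← one_mul (Nat.card _)] at h1
  refine both_of (M := 5) Nat.prime_three (k := 2 * m + 1) (by omega) rfl (Nat.coprime_one_left 3) h1 ?_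
    Nat.card_pos.ne' (by norm_num)
  generalize 3 ^ (2 * m + 1) = q at hq2 ⊢
  have h3 := succ_le_pow hq2 3
  calc (q - 1) * (q ^ 3 + 1) ≤ (q - 1) * q ^ 4 := Nat.mul_le_mul_left _ h3
    _ < q * q ^ 4 := Nat.mul_lt_mul_of_pos_right (by omega) (pow_pos (by omega) _)
    _ = q ^ 5 := by ring

theorem both_sz {K : Type} [Field K] [Fintype K] {m : ℕ} (hm : 1 ≤ m) (hK : Fintype.card K = 2 ^ (2 * m + 1)) :
    Both 2 (Nat.card ↥(Lie.Sz K (2 ^ (m + 1)))) := by
  have h1 := (S1163.result hm hK).1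
  have hq2 := two_le_pow_odd Nat.prime_two m
  rw [mul_assoc, ← one_mul (Nat.card _)] at h1
  refine both_of (M := 3) Nat.prime_two (k := 2 * m + 1) (by omega) rfl (Nat.coprime_one_left 2) h1 ?_
    Nat.card_pos.ne' (by norm_num)
  generalize 2 ^ (2 * m + 1) = q at hq2 ⊢
  obtain ⟨x, rfl⟩ := Nat.exists_eq_add_of_le' hq2
  have : x + 2 - 1 = x + 1 := by omega
  rw [this]
  nlinarith [sq_nonneg x]

theorem both_tf {K : Type} [Field K] [Fintype K] {m : ℕ} (hK : Fintype.card K = 2 ^ (2 * m + 1)) :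
    Both 2 (Nat.card ↥(Lie.twistedF4 K (2 ^ m))) := by
  have h1 := S1068.result hK
  have hq2 := two_le_pow_odd Nat.prime_two m
  rw [mul_assoc, mul_assoc, mul_assoc, ← one_mul (Nat.card _)] at h1
  refine both_of (M := 17) Nat.prime_two (k := 2 * m + 1) (by omega) rfl (Nat.coprime_one_left 2) h1 ?_
    Nat.card_pos.ne' (by norm_num)
  generalize 2 ^ (2 * m + 1) = q at hq2 ⊢
  have h3 := succ_le_pow hq2 3
  have h6 := succ_le_pow hq2 6
  calc (q - 1) * ((q ^ 3 + 1) * ((q ^ 4 - 1) * (q ^ 6 + 1))) ≤ q * (q ^ 4 * (q ^ 4 * q ^ 7)) := by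
        gcongr <;> exact Nat.sub_le _ _
    _ = q ^ 16 := by ring
    _ < q ^ 17 := Nat.pow_lt_pow_right (by omega) (by norm_num)

/-- **A group of Lie type in characteristic `p`** is `PSL_2(q)`, `q` the `p`-part of its order, or satisfies both
bounds; the first bound holds always. -/
theorem main {G : Type*} [Group G] [Finite G] {p : ℕ} (hp : p.Prime) (h : IsLieTypeChar p G) :
    Nat.card G < p ^ (3 * (Nat.card G).factorization p) ∧
      ((¬ ∃ (F : Type) (_ : Field F) (_ : Fintype F), Fintype.card F = p ^ (Nat.card G).factorization p ∧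
          Nonempty (G ≃* Matrix.ProjectiveSpecialLinearGroup (Fin 2) F)) →
        Nat.card G ^ 3 < p ^ (8 * (Nat.card G).factorization p)) := by
  have hG : Nat.card G ≠ 0 := Nat.card_pos.ne'
  have done : Both p (Nat.card G) → _ := fun hb => And.intro hb.1 (fun _ : ¬ ∃ (F : Type) (_ : Field F)
    (_ : Fintype F), Fintype.card F = p ^ (Nat.card G).factorization p ∧
          Nonempty (G ≃* Matrix.ProjectiveSpecialLinearGroup (Fin 2) F) => hb.2)
  rcases h with h | h | h | h | h | h | h | h | ⟨hp', h⟩ | ⟨hp', h⟩ | ⟨hp', h⟩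
  · obtain ⟨F, i1, i2, i3, n, h1, h2, ⟨f⟩⟩ := h
    rcases Nat.lt_or_ge 2 n with h3 | h3
    · apply done
      rw [Nat.card_congr f.toEquiv]
      exact both_psl hp h3
    · obtain rfl : n = 2 := le_antisymm h3 h1
      have h4 := psl_two (F := F) hp
      rw [← Nat.card_congr f.toEquiv] at h4
      exact ⟨h4.1, fun h5 => absurd ⟨F, i1, i2, h4.2, ⟨f⟩⟩ h5⟩
  · obtain ⟨F, _, _, _, m, h1, h2, ⟨f⟩⟩ := h
    apply done
    rw [Nat.card_congr f.toEquiv]
    exact both_psp hp h1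
  · obtain ⟨F, _, _, _, n, q, h1, h2, h3, ⟨f⟩⟩ := h
    apply done
    rw [Nat.card_congr f.toEquiv]
    exact both_psu hp h1 h2
  · obtain ⟨F, i1, i2, i3, m, h1, h2, ⟨f⟩⟩ := h
    apply done
    rw [Nat.card_congr f.toEquiv] at hG ⊢
    refine both_pomegaOdd hp ?_ h1 h2 hG
    rintro rfl
    obtain ⟨k, hk, hq⟩ := exists_pow (F := F) hp
    rw [hq] at h2
    exact (Nat.not_even_iff_odd.2 h2) ((even_two).pow_of_ne_zero hk)
  · obtain ⟨F, i1, i2, i3, m, h1, ⟨f⟩⟩ := h
    apply done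
    rw [Nat.card_congr f.toEquiv] at hG ⊢
    exact both_pomegaPlus hp h1 hG
  · obtain ⟨F, i1, i2, i3, m, a, b, h1, h2, ⟨f⟩⟩ := h
    apply done
    rw [Nat.card_congr f.toEquiv] at hG ⊢
    exact both_pomegaMinus hp h1 a b h2 hG
  · obtain ⟨F, i1, i2, i3, h⟩ := h
    apply done
    rcases h with ⟨h1, ⟨f⟩⟩ | ⟨⟨f⟩⟩ | ⟨⟨f⟩⟩ | ⟨⟨f⟩⟩ | ⟨⟨f⟩⟩
    · rw [Nat.card_congr f.toEquiv]; exact both_g2 hp
    · rw [Nat.card_congr f.toEquiv]; exact both_f4 hp
    · rw [Nat.card_congr f.toEquiv]; exact both_e6 hp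
    · rw [Nat.card_congr f.toEquiv]; exact both_e7 hp
    · rw [Nat.card_congr f.toEquiv]; exact both_e8 hp
  · obtain ⟨F, i1, i2, i3, q, hq, h⟩ := h
    apply done
    rcases h with ⟨h1, ⟨f⟩⟩ | ⟨h1, ⟨f⟩⟩
    · rw [Nat.card_congr f.toEquiv]; exact both_twE6 hp hq h1
    · rw [Nat.card_congr f.toEquiv]; exact both_twD4 hp hq h1
  · obtain ⟨F, _, _, m, h1, h2, ⟨f⟩⟩ := h
    subst hp'
    apply done
    rw [Nat.card_congr f.toEquiv]
    exact both_sz h1 h2
  · obtain ⟨F, _, _, m, h1, h2, ⟨f⟩⟩ := h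
    subst hp'
    apply done
    rw [Nat.card_congr f.toEquiv]
    exact both_tf h2
  · obtain ⟨F, _, _, m, h1, h2, ⟨f⟩⟩ := h
    subst hp'
    apply done
    rw [Nat.card_congr f.toEquiv]
    exact both_ree h2

end Cfsg.Agent.H977.LieOrd
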