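import Cfsg.Agent.H977.DpHyp
import Cfsg.Agent.H168.ExcCover
import Cfsg.Agent.H168.TwCover
import Cfsg.Agent.H168.TwF4Cover
import Cfsg.Agent.H376.CocAlt
import Cfsg.Agent.H378.ExcAdj

/-!
# The simple section: all families (helper977, for S3651)
-/

set_option autoImplicit false

namespace Cfsg.Agent.H977.Dp

open Cfsg Cfsg.Agent.OrdDiv Cfsg.Agent.H436 Cfsg.Agent.H425.Chr Cfsg.Agent.H420.QR Cfsg.Agent.H376.Coc
open Cfsg.Agent.H977.Minus (An)
open Cfsg.Agent.H94

section

variable {S : Type*} [Group S] {N : ℕ}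

/-! ### Alternating groups -/

theorem no_alt (H : Hyp N S) (hN : N = 5 ∨ N = 17 ∨ 257 ≤ N) (hB : Big N S) {m : ℕ}
    (e : S ≃* alternatingGroup (Fin m)) : False := by
  have hc := Nat.card_congr e.toEquiv
  obtain ⟨s, hs, h61, h103⟩ := exists_large hN
  have hsm : s ≤ m := alt_dvd_le hs.prime (hc ▸ hB _ _ (Or.inl rfl) hs)
  rcases eq_or_ne N 5 with rfl | h5
  · obtain ⟨g, hg⟩ := alt_adj (m := m) (r := 41) (s := 3) (by norm_num) (by norm_num) (by norm_num) (by norm_num)
      (by norm_num) (by omega)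
    have h := H.closed 8 41 3 (Or.inr rfl) prim41 (by norm_num) (by norm_num)
      ⟨e.symm g, by rw [MulEquiv.orderOf_eq, hg]⟩
    exact h.not_dvd dvd_rfl
  · have h103' := h103 h5
    obtain ⟨ρ, h1, h31, -, h12, -⟩ := H.coc (hN.resolve_left h5)
    have h2 : 31 ∣ Nat.card S := by
      have : Nontrivial (Fin m) := Fin.nontrivial_iff_two_le.2 (by omega)
      have h3 := two_mul_nat_card_alternatingGroup (α := Fin m)
      rw [Nat.card_perm, Nat.card_fin] at h3
      have h4 : 31 ∣ 2 * Nat.card (alternatingGroup (Fin m)) := by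
        rw [h3]
        exact Nat.dvd_factorial (by norm_num) (by omega)
      rw [hc]
      exact (Nat.Coprime.dvd_mul_left (by norm_num)).1 h4
    have h5 := alt_coclique_thirtyOne (h1.congr e) (h31 h2) (by omega)
    omega

theorem no_alt_seven (H : Hyp N S) (hN : N = 5 ∨ N = 17 ∨ 257 ≤ N) (e : S ≃* alternatingGroup (Fin 7)) : False := by
  have hc := Nat.card_congr e.toEquiv
  have hle : ∀ s : ℕ, s.Prime → s ∣ Nat.card S → s ≤ 7 := fun s hs hd => alt_dvd_le hs (hc ▸ hd)
  rcases eq_or_ne N 5 with rfl | h5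
  · have h := (H.five rfl).2 13 (by decide) 41 (by decide) (fun h => by have := hle 13 (by norm_num) h; omega)
      (fun h => by have := hle 41 (by norm_num) h; omega)
    omega
  · obtain ⟨ρ, h1, -, h3, h12, -⟩ := H.coc (hN.resolve_left h5)
    have hsub : ρ ⊆ Finset.Icc 4 7 := fun x hx => by
      rw [Finset.mem_Icc]
      exact ⟨h3 x hx, hle x (h1.prime x hx) (h1.dvd x hx)⟩
    have := Finset.card_le_card hsub
    rw [Nat.card_Icc] at this
    omega

/-! ### `N = 5` : the primes -/

/-- the primes of the order for `N = 5` -/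
theorem pi_five (H : Hyp 5 S) {s : ℕ} (hs : s.Prime) (hd : s ∣ Nat.card S) :
    s = 2 ∨ s = 3 ∨ s = 5 ∨ s = 7 ∨ s = 13 ∨ s = 41 ∨ s = 61 := by
  by_cases h2 : s = 2
  · exact Or.inl h2
  by_cases h3 : s = 3
  · exact Or.inr (Or.inl h3)
  have hK := H.pi s hs h2 h3 hd
  have h1 : Prim 3 (orderOf ((3 : ℕ) : ZMod s)) s :=
    prim_of_orderOf (by norm_num) hs (fun h => h3 ((Nat.prime_dvd_prime_iff_eq hs Nat.prime_three).1 h))
  set e := orderOf ((3 : ℕ) : ZMod s)
  have hcase : s ∣ 3 ^ 2 - 1 ∨ s ∣ 3 ^ 4 - 1 ∨ s ∣ 3 ^ 6 - 1 ∨ s ∣ 3 ^ 8 - 1 ∨ s ∣ 3 ^ 5 + 1 := by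
    rcases hK with ⟨ha, hb⟩ | ⟨k, hk1, hk2, hk⟩
    · exact Or.inr (Or.inr (Or.inr (Or.inr (h1.dvd_add ha hb))))
    · have h4 := h1.dvd hk
      have : k ≤ 4 := hk2
      interval_cases k
      · exact Or.inl h4
      · exact Or.inr (Or.inl h4)
      · exact Or.inr (Or.inr (Or.inl h4))
      · exact Or.inr (Or.inr (Or.inr (Or.inl h4)))
  have h5 : s ∣ 2 * 3 * 5 * 7 * 13 * 41 * 61 := by
    rcases hcase with h | h | h | h | h
    · exact (hs.dvd_of_dvd_pow (show s ∣ 2 ^ 3 from h)).trans (by norm_num)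
    · exact hs.dvd_of_dvd_pow (show s ∣ (2 * 3 * 5 * 7 * 13 * 41 * 61) ^ 4 from h.trans (by norm_num))
    · exact hs.dvd_of_dvd_pow (show s ∣ (2 * 3 * 5 * 7 * 13 * 41 * 61) ^ 4 from h.trans (by norm_num))
    · exact hs.dvd_of_dvd_pow (show s ∣ (2 * 3 * 5 * 7 * 13 * 41 * 61) ^ 5 from h.trans (by norm_num))
    · exact hs.dvd_of_dvd_pow (show s ∣ (2 * 3 * 5 * 7 * 13 * 41 * 61) ^ 2 from h.trans (by norm_num))
  have hp : ∀ t : ℕ, t.Prime → s ∣ t → s = t := fun t ht h => (Nat.prime_dvd_prime_iff_eq hs ht).1 h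
  rw [hs.dvd_mul, hs.dvd_mul, hs.dvd_mul, hs.dvd_mul, hs.dvd_mul, hs.dvd_mul] at h5
  rcases h5 with (((((h | h) | h) | h) | h) | h) | h
  · exact Or.inl (hp 2 (by norm_num) h)
  · exact Or.inr (Or.inl (hp 3 (by norm_num) h))
  · exact Or.inr (Or.inr (Or.inl (hp 5 (by norm_num) h)))
  · exact Or.inr (Or.inr (Or.inr (Or.inl (hp 7 (by norm_num) h))))
  · exact Or.inr (Or.inr (Or.inr (Or.inr (Or.inl (hp 13 (by norm_num) h)))))
  · exact Or.inr (Or.inr (Or.inr (Or.inr (Or.inr (Or.inl (hp 41 (by norm_num) h))))))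
  · exact Or.inr (Or.inr (Or.inr (Or.inr (Or.inr (Or.inr (hp 61 (by norm_num) h))))))

theorem not_five (H : Hyp 5 S) {s : ℕ} (hs : s.Prime) (h : s ∉ ({2, 3, 5, 7, 13, 41, 61} : Finset ℕ)) :
    ¬ s ∣ Nat.card S := fun hd => h (by
  have := pi_five H hs hd
  simp only [Finset.mem_insert, Finset.mem_singleton]
  exact this)

theorem pow_sub_dvd {u a b : ℕ} (h : a ∣ b) : u ^ a - 1 ∣ u ^ b - 1 := by
  obtain ⟨c, rfl⟩ := h
  have := Nat.sub_dvd_pow_sub_pow (u ^ a) 1 c
  rwa [one_pow, ← pow_mul] at this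

theorem dvd_of_dvd_sub {u a b t : ℕ} (h1 : t ∣ u ^ a - 1) (h : a ∣ b) : t ∣ u ^ b - 1 := h1.trans (pow_sub_dvd h)

/-! the orders needed -/

theorem pr2_61 : Prim 2 60 61 := by
  refine prim_of_pow (by norm_num) (by norm_num) (by norm_num) (by norm_num) (by decide +kernel) ?_
  intro p hp hd
  rcases prime_dvd_thirty hp (hp.dvd_of_dvd_pow (show p ∣ 30 ^ 2 from hd.trans (by norm_num))) with rfl | rfl | rfl <;>
    decide +kernel

theorem pr5_41 : Prim 5 20 41 := by
  refine prim_of_pow (by norm_num) (by norm_num) (by norm_num) (by norm_num) (by decide +kernel) ?_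
  intro p hp hd
  rcases prime_dvd_thirty hp (hp.dvd_of_dvd_pow (show p ∣ 30 ^ 2 from hd.trans (by norm_num))) with rfl | rfl | rfl
  · decide +kernel
  · norm_num at hd
  · decide +kernel

theorem pr7_41 : Prim 7 40 41 := by
  refine prim_of_pow (by norm_num) (by norm_num) (by norm_num) (by norm_num) (by decide +kernel) ?_
  intro p hp hd
  rcases prime_dvd_thirty hp (hp.dvd_of_dvd_pow (show p ∣ 30 ^ 3 from hd.trans (by norm_num))) with rfl | rfl | rfl
  · decide +kernel
  · norm_num at hd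
  · decide +kernel

theorem pr7_61 : Prim 7 60 61 := by
  refine prim_of_pow (by norm_num) (by norm_num) (by norm_num) (by norm_num) (by decide +kernel) ?_
  intro p hp hd
  rcases prime_dvd_thirty hp (hp.dvd_of_dvd_pow (show p ∣ 30 ^ 2 from hd.trans (by norm_num))) with rfl | rfl | rfl <;>
    decide +kernel

theorem pr13_41 : Prim 13 40 41 := by
  refine prim_of_pow (by norm_num) (by norm_num) (by norm_num) (by norm_num) (by decide +kernel) ?_
  intro p hp hd
  rcases prime_dvd_thirty hp (hp.dvd_of_dvd_pow (show p ∣ 30 ^ 3 from hd.trans (by norm_num))) with rfl | rfl | rfl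
  · decide +kernel
  · norm_num at hd
  · decide +kernel

theorem pr13_61 : Prim 13 3 61 := by
  refine prim_of_pow (by norm_num) (by norm_num) (by norm_num) (by norm_num) (by decide +kernel) ?_
  intro p hp hd
  have := (Nat.prime_dvd_prime_iff_eq hp Nat.prime_three).1 hd
  subst this
  decide +kernel

theorem pr41_61 : Prim 41 10 61 := by
  refine prim_of_pow (by norm_num) (by norm_num) (by norm_num) (by norm_num) (by decide +kernel) ?_
  intro p hp hd
  rcases prime_dvd_thirty hp (hd.trans (by norm_num)) with rfl | rfl | rfl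
  · decide +kernel
  · norm_num at hd
  · decide +kernel

theorem pr41_13 : Prim 41 12 13 := by
  refine prim_of_pow (by norm_num) (by norm_num) (by norm_num) (by norm_num) (by decide +kernel) ?_
  intro p hp hd
  rcases prime_dvd_thirty hp (hp.dvd_of_dvd_pow (show p ∣ 30 ^ 2 from hd.trans (by norm_num))) with rfl | rfl | rfl
  · decide +kernel
  · decide +kernel
  · norm_num at hd

theorem pr61_41 : Prim 61 20 41 := by
  refine prim_of_pow (by norm_num) (by norm_num) (by norm_num) (by norm_num) (by decide +kernel) ?_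
  intro p hp hd
  rcases prime_dvd_thirty hp (hp.dvd_of_dvd_pow (show p ∣ 30 ^ 2 from hd.trans (by norm_num))) with rfl | rfl | rfl
  · decide +kernel
  · norm_num at hd
  · decide +kernel

theorem pr61_7 : Prim 61 6 7 := by
  refine prim_of_pow (by norm_num) (by norm_num) (by norm_num) (by norm_num) (by decide +kernel) ?_
  intro p hp hd
  rcases prime_dvd_thirty hp (hd.trans (by norm_num)) with rfl | rfl | rfl
  · decide +kernel
  · decide +kernel
  · norm_num at hd

/-! ### `PSL(2,q)` -/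

theorem card_R5 (H : Hyp 5 S) : 3 ≤ (R5.filter fun r => r ∣ Nat.card S).card := by
  have h1 := Finset.card_filter_add_card_filter_not (s := R5) (fun r => r ∣ Nat.card S)
  have h2 : (R5.filter fun r => ¬ r ∣ Nat.card S).card ≤ 1 := by
    rw [Finset.card_le_one]
    intro a ha b hb
    rw [Finset.mem_filter] at ha hb
    exact (H.five rfl).2 a ha.1 b hb.1 ha.2 hb.2
  have h3 : R5.card = 4 := by decide
  omega

theorem no_psl_two (H : Hyp N S) (hN : N = 5 ∨ N = 17 ∨ 257 ≤ N) {F : Type} [Field F] [Fintype F]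
    (e : S ≃* Matrix.ProjectiveSpecialLinearGroup (Fin 2) F) : False := by
  have hc := Nat.card_congr e.toEquiv
  rcases eq_or_ne N 5 with rfl | h5
  swap
  · obtain ⟨ρ, h1, -, h3, h12, -⟩ := H.coc (hN.resolve_left h5)
    have := (psl2_coc e h1 h3).1
    omega
  obtain ⟨u, hu, huq⟩ := (psl2_coc e (H.five rfl).1 (by
    intro x hx
    rw [Finset.mem_filter] at hx
    have := hx.1
    simp only [R5, Finset.mem_insert, Finset.mem_singleton] at this
    omega)).2 (card_R5 H)
  rw [Finset.mem_filter] at hu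
  obtain ⟨k, hk, hq⟩ : ∃ k : ℕ, 0 < k ∧ Fintype.card F = u ^ k := by
    obtain ⟨p, k, hp, hk, hpk⟩ := (Fintype.isPrimePow_card_of_field (α := F))
    rw [← Nat.prime_iff] at hp
    have hup : u.Prime := (H.five rfl).1.prime u (Finset.mem_filter.2 hu)
    rw [← hpk] at huq
    have := (Nat.prime_dvd_prime_iff_eq hup hp).1 (hup.dvd_of_dvd_pow huq)
    subst this
    exact ⟨k, hk, hpk.symm⟩
  have hsq : Fintype.card F ^ 2 - 1 = (Fintype.card F + 1) * (Fintype.card F - 1) := by
    have := Nat.sq_sub_sq (Fintype.card F) 1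
    rwa [one_pow] at this
  -- primes dividing `q ^ 2 - 1`
  have hup : u.Prime := (H.five rfl).1.prime u (Finset.mem_filter.2 hu)
  have hin : ∀ t : ℕ, t.Prime → t ≠ 2 → t ∣ u ^ (2 * k) - 1 → t ∣ Nat.card S := by
    intro t ht ht2 hd
    have h1 := psl_eq (F := F) (n := 2) le_rfl
    rw [← hc] at h1
    have h3 : fPSL.num 2 (Fintype.card F) = (Fintype.card F ^ 2 - 1) * (Fintype.card F ^ 2 - Fintype.card F) := by
      change glN 2 _ = _
      simp [glN, List.range_succ]
    have h5 : Fintype.card F ^ 2 - Fintype.card F = Fintype.card F * (Fintype.card F - 1) := by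
      rw [Nat.mul_sub, mul_one, pow_two]
    have hq1 : 0 < Fintype.card F - 1 := by
      have : 1 < Fintype.card F := Fintype.one_lt_card
      omega
    have h6 : Nat.gcd 2 (Fintype.card F - 1) * Nat.card S = (Fintype.card F ^ 2 - 1) * Fintype.card F := by
      apply Nat.eq_of_mul_eq_mul_right hq1
      rw [h3, h5] at h1
      change Nat.gcd 2 (Fintype.card F - 1) * (Fintype.card F - 1) * Nat.card S = _ at h1
      calc Nat.gcd 2 (Fintype.card F - 1) * Nat.card S * (Fintype.card F - 1)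
          = Nat.gcd 2 (Fintype.card F - 1) * (Fintype.card F - 1) * Nat.card S := by ring
        _ = _ := by rw [h1]; ring
    have h7 : t ∣ Nat.gcd 2 (Fintype.card F - 1) * Nat.card S := by
      rw [h6, hq, ← pow_mul, mul_comm k 2]
      exact hd.mul_right _
    rcases ht.dvd_mul.1 h7 with h8 | h8
    · exact absurd ((Nat.prime_dvd_prime_iff_eq ht Nat.prime_two).1 (h8.trans (Nat.gcd_dvd_left _ _))) ht2
    · exact h8
  have hno : ∀ t : ℕ, t.Prime → t ≠ 2 → t ∉ ({2, 3, 5, 7, 13, 41, 61} : Finset ℕ) → ¬ t ∣ u ^ (2 * k) - 1 :=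
    fun t ht ht2 h hd => not_five H ht h (hin t ht ht2 hd)
  -- primes of the coclique divide `q ^ 2 - 1`
  have hout : ∀ t ∈ R5, t ∣ Nat.card S → t ≠ u → t ∣ u ^ (2 * k) - 1 := by
    intro t ht hd htu
    have htp : t.Prime := (H.five rfl).1.prime t (Finset.mem_filter.2 ⟨ht, hd⟩)
    rcases psl2_prime htp (hc ▸ hd) with h | h | h
    · exfalso
      rw [hq] at h
      exact htu ((Nat.prime_dvd_prime_iff_eq htp hup).1 (htp.dvd_of_dvd_pow h))
    · rw [mul_comm 2 k, pow_mul, ← hq, hsq]
      exact h.mul_left _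
    · rw [mul_comm 2 k, pow_mul, ← hq, hsq]
      exact h.mul_right _
  have hmiss := (H.five rfl).2
  have huR := hu.1
  have hstep : ∀ {e t : ℕ}, Prim u e t → t ∈ R5 → t ≠ u → t ∣ Nat.card S → e ∣ 2 * k :=
    fun {e t} h h1 h2 h3 => (h.dvd_iff _).1 (hout t h1 h3 h2)
  have h11 : u ∈ ({7, 13, 41, 61} : Finset ℕ) → ¬ 10 ∣ 2 * k := fun h hk' => by
    refine hno 11 (by norm_num) (by norm_num) (by decide) (dvd_of_dvd_sub (a := 10) ?_ hk')
    simp only [Finset.mem_insert, Finset.mem_singleton] at h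
    rcases h with rfl | rfl | rfl | rfl <;> norm_num
  have h11' := h11 huR
  simp only [R5, Finset.mem_insert, Finset.mem_singleton] at huR
  rcases huR with rfl | rfl | rfl | rfl
  · by_cases h41 : 41 ∣ Nat.card S
    · exact h11' ((by norm_num : 10 ∣ 40).trans (hstep pr7_41 (by decide) (by norm_num) h41))
    · by_cases h61 : 61 ∣ Nat.card S
      · exact h11' ((by norm_num : 10 ∣ 60).trans (hstep pr7_61 (by decide) (by norm_num) h61))
      · have := hmiss 41 (by decide) 61 (by decide) h41 h61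
        omega
  · by_cases h41 : 41 ∣ Nat.card S
    · exact h11' ((by norm_num : 10 ∣ 40).trans (hstep pr13_41 (by decide) (by norm_num) h41))
    · have h61 : 61 ∣ Nat.card S := by
        by_contra h61
        have := hmiss 41 (by decide) 61 (by decide) h41 h61
        omega
      have h3 := hstep pr13_61 (by decide) (by norm_num) h61
      refine hno 157 (by norm_num) (by norm_num) (by decide) (dvd_of_dvd_sub (a := 6) (by norm_num) ?_)
      exact Nat.Coprime.mul_dvd_of_dvd_of_dvd (by norm_num : Nat.Coprime 2 3) (dvd_mul_right _ _) h3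
  · by_cases h61 : 61 ∣ Nat.card S
    · exact h11' (hstep pr41_61 (by decide) (by norm_num) h61)
    · have h13 : 13 ∣ Nat.card S := by
        by_contra h13
        have := hmiss 13 (by decide) 61 (by decide) h13 h61
        omega
      have h3 := hstep pr41_13 (by decide) (by norm_num) h13
      exact hno 29 (by norm_num) (by norm_num) (by decide) (dvd_of_dvd_sub (a := 12) (by norm_num) h3)
  · by_cases h41 : 41 ∣ Nat.card S
    · exact h11' ((by norm_num : 10 ∣ 20).trans (hstep pr61_41 (by decide) (by norm_num) h41))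
    · have h7 : 7 ∣ Nat.card S := by
        by_contra h7
        have := hmiss 7 (by decide) 41 (by decide) h7 h41
        omega
      have h3 := hstep pr61_7 (by decide) (by norm_num) h7
      exact hno 97 (by norm_num) (by norm_num) (by decide) (dvd_of_dvd_sub (a := 6) (by norm_num) h3)

end

end Cfsg.Agent.H977.Dp
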