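import Cfsg.Agent.H977.DpCoc
import Cfsg.Agent.H977.DpPslTwo
import Cfsg.Agent.H371.PslThree
import Cfsg.Agent.H182.ThreeComp
import Cfsg.Agent.H377.SpElt
import Cfsg.Agent.H377.OddThree
import Cfsg.Agent.H948.UMain
import Cfsg.Agent.H377.Types

/-!
# The simple section: classical groups (helper977, for S3651)

`Hyp N S` : what is known of the prime graph of the simple section `S` of a group with the prime graph of `²D_N(3)`.
-/

set_option autoImplicit false

namespace Cfsg.Agent.H977.Dp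

open Cfsg Cfsg.Agent.OrdDiv Cfsg.Agent.H436 Cfsg.Agent.H425.Chr Cfsg.Agent.H420.QR Cfsg.Agent.H376.Coc
open Cfsg.Agent.H977.Minus (An)
open Cfsg.Agent.H94
open Cfsg.Agent.H564.NearTwo (Near)

/-- the four primes for `N = 5` -/
def R5 : Finset ℕ := {7, 13, 41, 61}

/-- what is known of the simple section `S` -/
structure Hyp (N : ℕ) (S : Type*) [Group S] : Prop where
  pi : ∀ s : ℕ, s.Prime → s ≠ 2 → s ≠ 3 → s ∣ Nat.card S → K (.ominus N 3) (orderOf ((3 : ℕ) : ZMod s))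
  closed : ∀ e r s : ℕ, (e = 2 * N ∨ e = 2 * (N - 1)) → Prim 3 e r → s.Prime → r ≠ s →
    (∃ x : S, orderOf x = r * s) → Prim 3 e s
  coc : N = 17 ∨ 257 ≤ N → ∃ ρ : Finset ℕ, IsCoc S ρ ∧ (31 ∣ Nat.card S → 31 ∈ ρ) ∧ (∀ x ∈ ρ, 3 < x) ∧
    12 ≤ ρ.card ∧ (257 ≤ N → 14 ≤ ρ.card)
  five : N = 5 → IsCoc S (R5.filter fun r => r ∣ Nat.card S) ∧
    ∀ r ∈ R5, ∀ s ∈ R5, ¬ r ∣ Nat.card S → ¬ s ∣ Nat.card S → r = s

/-- all primes of class `2 N`, `2 (N-1)` divide `|S|` -/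
def Big (N : ℕ) (S : Type*) [Group S] : Prop :=
  ∀ e r : ℕ, (e = 2 * N ∨ e = 2 * (N - 1)) → Prim 3 e r → r ∣ Nat.card S

section

variable {S : Type*} [Group S] {N n : ℕ}

theorem Hyp.adj (H : Hyp N S) {e r s : ℕ} (he : e = 2 * N ∨ e = 2 * (N - 1)) (hr : Prim 3 e r)
    (h : PG.Adj S r s) : Prim 3 e s := by
  obtain ⟨h1, h2, h3, x, y, hx, hy, hxy⟩ := h
  refine H.closed e r s he hr h2 h3 ⟨x * y, ?_⟩
  rw [hxy.orderOf_mul_eq_mul_orderOf_of_coprime (by rw [hx, hy]; exact (Nat.coprime_primes h1 h2).2 h3), hx, hy]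

theorem Hyp.conn (H : Hyp N S) {e r s : ℕ} (he : e = 2 * N ∨ e = 2 * (N - 1)) (hr : Prim 3 e r)
    (h : PG.Conn S r s) : Prim 3 e s := by
  induction h with
  | refl => exact hr
  | tail _ h2 ih => exact H.adj he ih h2

/-- the data of two primes in different components -/
structure Two (S : Type*) [Group S] (r s : ℕ) : Prop where
  pr : r.Prime
  ps : s.Prime
  r61 : 61 ≤ s
  r2 : r ≠ 2
  s2 : s ≠ 2
  dr : r ∣ Nat.card S
  ds : s ∣ Nat.card S
  c1 : ¬ PG.Conn S 2 r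
  c2 : ¬ PG.Conn S 2 s
  c3 : ¬ PG.Conn S r s

theorem no_two {e : ℕ} (h : Prim 3 e 2) : e = 1 :=
  Nat.dvd_one.1 ((h.dvd_iff 1).1 (by norm_num))

/-- a prime of class `2 N` that is large -/
theorem exists_large (hN : N = 5 ∨ N = 17 ∨ 257 ≤ N) : ∃ s, Prim 3 (2 * N) s ∧ 61 ≤ s ∧ (N ≠ 5 → 103 ≤ s) := by
  rcases hN with rfl | rfl | hN
  · exact ⟨61, prim61, le_rfl, by omega⟩
  · exact ⟨103, prim103, by norm_num, by norm_num⟩
  · obtain ⟨s, hs⟩ := exists_prim (q := 3) (e := 2 * N) (by norm_num) (by omega) (by omega)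
    have := prim_lt (by norm_num) hs
    exact ⟨s, hs, by omega, by omega⟩

theorem Hyp.exists_two (H : Hyp N S) (hN : N = 5 ∨ N = 17 ∨ 257 ≤ N) (hB : Big N S) : ∃ r s, Two S r s := by
  have h5 : 5 ≤ N := by omega
  obtain ⟨s, hs, hs61, -⟩ := exists_large hN
  obtain ⟨r, hr⟩ := exists_prim (q := 3) (e := 2 * (N - 1)) (by norm_num) (by omega) (by omega)
  refine ⟨r, s, hr.prime, hs.prime, hs61, hr.ne_two (by omega) (by decide), hs.ne_two (by omega) (by decide),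
    hB _ _ (Or.inr rfl) hr, hB _ _ (Or.inl rfl) hs, fun h => ?_, fun h => ?_, fun h => ?_⟩
  · have := no_two (H.conn (Or.inr rfl) hr h.symm)
    omega
  · have := no_two (H.conn (Or.inl rfl) hs h.symm)
    omega
  · have := (H.conn (Or.inr rfl) hr h).unique hs
    omega

theorem Two.near {r s : ℕ} (T : Two S r s) : ¬ Near S r ∧ ¬ Near S s := by
  have key : ∀ t, t ≠ 2 → ¬ PG.Conn S 2 t → ¬ Near S t := by
    rintro t ht hc (h | h | ⟨u, h1, h2⟩)
    · exact ht h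
    · exact hc (h.conn).symm
    · exact hc ((h1.conn).trans (h2.conn)).symm
  exact ⟨key r T.r2 T.c1, key s T.s2 T.c2⟩

theorem dvd_of_num {F : Type*} {m k c : ℕ} {s : ℕ} (hs : s.Prime) (hd : s ∣ c) {d : ℕ} (h : d * c = m) (hm : m ∣ (Nat.factorial 11) ^ k) :
    s ≤ 11 := by
  have h1 : s ∣ Nat.factorial 11 := hs.dvd_of_dvd_pow ((hd.trans (Dvd.intro_left d h)).trans hm)
  exact (hs.dvd_factorial).1 h1

theorem Two.no_psl {r s : ℕ} (T : Two S r s) {F : Type} [Field F] [Fintype F] {n : ℕ} (hn : 3 ≤ n)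
    (e : S ≃* Matrix.ProjectiveSpecialLinearGroup (Fin n) F) : False := by
  have hc := Nat.card_congr e.toEquiv
  have h := Cfsg.Agent.H371.Psl.three (F := F) hn T.pr T.ps T.r2 T.s2 (hc ▸ T.dr) (hc ▸ T.ds)
  rw [← PG.conn_congr e, ← PG.conn_congr e, ← PG.conn_congr e] at h
  rcases h with h | h | h | ⟨rfl, h⟩
  · exact T.c1 h
  · exact T.c2 h
  · exact T.c3 h
  · have h1 := psl_eq (F := F) (n := 3) (by norm_num)
    rw [← hc] at h1
    have h61 := T.r61
    rw [Nat.card_eq_fintype_card] at h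
    rcases h with h | h
    · rw [h] at h1
      have := dvd_of_num (F := F) (k := 10) T.ps T.ds h1 (by decide +kernel)
      omega
    · rw [h] at h1
      have := dvd_of_num (F := F) (k := 20) T.ps T.ds h1 (by decide +kernel)
      omega

theorem Two.no_psp {r s : ℕ} (T : Two S r s) (h : IsPSp S) : False := by
  obtain ⟨h1, h2⟩ := T.near
  rcases Cfsg.Agent.H377.isPSp_three h T.pr T.ps T.dr T.ds with h | h | h | h
  · exact h1 h
  · exact h2 h
  · exact T.c3 (h ▸ Relation.ReflTransGen.refl)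
  · exact T.c3 h.conn

theorem Two.no_oodd {r s : ℕ} (T : Two S r s) (h : IsPOmegaOdd S) : False := by
  obtain ⟨h1, h2⟩ := T.near
  rcases Cfsg.Agent.H377.OOdd.isPOmegaOdd_three h T.pr T.ps T.dr T.ds with h | h | h | h
  · exact h1 h
  · exact h2 h
  · exact T.c3 (h ▸ Relation.ReflTransGen.refl)
  · exact T.c3 h.conn

theorem Two.no_oplus {r s : ℕ} (T : Two S r s) (h : IsPOmegaPlus S) : False := by
  rcases Cfsg.Agent.H182.Orth.conn_of_isPOmegaPlus h T.pr T.ps T.r2 T.s2 T.dr T.ds with h | h | h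
  · exact T.c1 h
  · exact T.c2 h
  · exact T.c3 h

theorem Two.no_psu {r s : ℕ} (T : Two S r s) (h : IsPSU S) : False := by
  have h61 := T.r61
  rcases Cfsg.Agent.H948.UMain.psu_three h T.pr T.ps T.r2 T.s2 T.dr T.ds with h | h | h | h | h
  · exact T.c1 h
  · exact T.c2 h
  · exact T.c3 h
  · obtain ⟨F, _, _, hF, ⟨e⟩⟩ := h
    have h1 := psu_eq (F := F) (n := 4) (q := 3) hF (by norm_num)
    rw [← Nat.card_congr e.toEquiv] at h1
    have := dvd_of_num (F := F) (k := 30) T.ps T.ds h1 (by decide +kernel)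
    omega
  · obtain ⟨F, _, _, hF, ⟨e⟩⟩ := h
    have h1 := psu_eq (F := F) (n := 6) (q := 2) hF (by norm_num)
    rw [← Nat.card_congr e.toEquiv] at h1
    have := dvd_of_num (F := F) (k := 40) T.ps T.ds h1 (by decide +kernel)
    omega

end

end Cfsg.Agent.H977.Dp
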