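import Cfsg.Agent.H977.DpElim

/-!
# The simple section of a group with the prime graph of `²D_N(3)` (helper977, for S3651)
-/

set_option autoImplicit false

namespace Cfsg.Agent.H977.Dp

open Cfsg Cfsg.Agent.OrdDiv Cfsg.Agent.H436 Cfsg.Agent.H425.Chr Cfsg.Agent.H420.QR Cfsg.Agent.H376.Coc
open Cfsg.Agent.H977.Minus (An)
open Cfsg.Agent.H94

section

variable {S : Type*} [Group S] {N : ℕ}

/-! ### Sporadic groups -/

theorem spor_dvd : ∀ x ∈ spor, x.2 ∣ (Nat.factorial 71) ^ 46 ∧ ¬ 61 ∣ x.2 := by decide +kernel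

theorem no_spor (hN : N = 5 ∨ N = 17 ∨ 257 ≤ N) (hB : Big N S) {g : Grp} (hc : Nat.card S = ordN g)
    (hg : g ∈ spor.map (fun x => x.1)) : False := by
  obtain ⟨x, hx, rfl⟩ := List.mem_map.1 hg
  have h1 := hc.trans (spor_ord x hx)
  obtain ⟨h2, h3⟩ := spor_dvd x hx
  obtain ⟨s, hs, h61, h103⟩ := exists_large hN
  have hd := hB _ _ (Or.inl rfl) hs
  rcases eq_or_ne N 5 with rfl | h5
  · exact h3 (h1 ▸ hB _ _ (Or.inl rfl) prim61)
  · have := h103 h5
    rw [h1] at hd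
    have := (hs.prime.dvd_factorial).1 (hs.prime.dvd_of_dvd_pow (hd.trans h2))
    omega

/-! ### Covers, `N ≥ 17` -/

theorem no_cover (H : Hyp N S) (hN : N = 17 ∨ 257 ≤ N) {q c : ℕ} (hq : IsPrimePow q)
    (h : Cover S q c) (hc : c ≤ 10 ∨ (257 ≤ N ∧ c ≤ 12)) : False := by
  obtain ⟨ρ, h1, -, h3, h12, h14⟩ := H.coc hN
  have := cover_coc hq h h1 h3
  rcases hc with hc | ⟨h2, hc⟩
  · omega
  · have := h14 h2
    omega

/-- `E₈(q)`, `N = 17` -/
theorem no_E8_seventeen (H : Hyp 17 S) (hB : Big 17 S) {F : Type} [Field F] [Fintype F]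
    (e : S ≃* ↥(Lie.chevE8.group F)) : False := by
  have hc := Nat.card_congr e.toEquiv
  have hd := hB _ _ (Or.inl rfl) prim103
  rw [hc] at hd
  have hod : ∀ m, 0 < m → ¬ m ∣ 102 → Cfsg.Agent.H378.ExcAdj.od (Nat.card F) 103 ≠ m := by
    intro m hm h102 h
    have : Fact (Nat.Prime 103) := ⟨by norm_num⟩
    apply h102
    rw [← h]
    apply orderOf_dvd_of_pow_eq_one
    apply ZMod.pow_card_sub_one_eq_one
    intro h0
    rw [Cfsg.Agent.H378.ExcAdj.od, h0] at h
    have h4 := pow_orderOf_eq_one (0 : ZMod 103)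
    rw [h, zero_pow hm.ne'] at h4
    exact zero_ne_one h4
  rcases Cfsg.Agent.H378.ExcAdj.adj_E8 F (r := 103) (by norm_num) hd with h | h | h | h | h | h
  · norm_num at h
  · have h1 : PG.Adj S 103 2 := h.map e.symm.toMonoidHom e.symm.injective
    have := no_two (H.adj (Or.inl rfl) prim103 h1)
    norm_num at this
  · exact hod 15 (by norm_num) (by norm_num) h
  · exact hod 20 (by norm_num) (by norm_num) h
  · exact hod 24 (by norm_num) (by norm_num) h
  · exact hod 30 (by norm_num) (by norm_num) h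

/-! ### Exceptional groups, `N = 5` -/

/-- a class divisible by 9 -/
theorem no_nine (H : Hyp 5 S) {g : Grp} (hq : 2 ≤ qOf g) (he : den g * Nat.card S = num g) {d : ℕ} (hd : 9 ∣ d)
    (hd0 : d ≠ 0) (hK : K g d) : False := by
  have hd3 : 9 ≤ d := Nat.le_of_dvd (by omega) hd
  obtain ⟨w, hw⟩ := exists_prim (q := qOf g) hq (e := d) (by omega) (by omega)
  have h1 := (dvd_iff hq (by omega) hw (g := g) rfl he).2 hK
  have h2 := hd.trans (prim_dvd_sub (by omega) hw)
  rcases pi_five H hw.prime h1 with h | h | h | h | h | h | h <;> subst h <;> norm_num at h2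

/-- if the field exponent of `q` is prime to 5 then `q ^ 24 - 1` is prime to 41 or 61 -/
theorem five_dvd {u k : ℕ} (hu : u ∈ ({2, 3, 5, 7, 13, 41, 61} : Finset ℕ))
    (h41 : u ≠ 41 → 41 ∣ u ^ (24 * k) - 1) (h61 : u ≠ 61 → 61 ∣ u ^ (24 * k) - 1) : 5 ∣ k := by
  have key : ∀ {e t : ℕ}, 5 ∣ e → Prim u e t → t ∣ u ^ (24 * k) - 1 → 5 ∣ k := fun {e t} he h hd => by
    have h1 := he.trans ((h.dvd_iff _).1 hd)
    exact (Nat.Coprime.dvd_mul_left (by norm_num)).1 h1
  simp only [Finset.mem_insert, Finset.mem_singleton] at hu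
  rcases hu with rfl | rfl | rfl | rfl | rfl | rfl | rfl
  · exact key (by norm_num) pr2_61 (h61 (by norm_num))
  · exact key (by norm_num) prim61 (h61 (by norm_num))
  · exact key (by norm_num) pr5_41 (h41 (by norm_num))
  · exact key (by norm_num) pr7_41 (h41 (by norm_num))
  · exact key (by norm_num) pr13_41 (h41 (by norm_num))
  · exact key (by norm_num) pr41_61 (h61 (by norm_num))
  · exact key (by norm_num) pr61_41 (h41 (by norm_num))

theorem dvd_pow_sub {q a b : ℕ} (h : a ∣ b) : q ^ a - 1 ∣ q ^ b - 1 := pow_sub_dvd h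

theorem add_dvd {q a b : ℕ} (h : 2 * a ∣ b) : q ^ a + 1 ∣ q ^ b - 1 := by
  refine Dvd.dvd.trans ?_ (dvd_pow_sub h)
  rw [mul_comm 2 a, pow_mul]
  have := Nat.sq_sub_sq (q ^ a) 1
  rw [one_pow] at this
  exact ⟨_, this⟩

theorem td4_dvd {q : ℕ} (hq : 1 ≤ q) : q ^ 8 + q ^ 4 + 1 ∣ q ^ 24 - 1 := by
  refine Dvd.dvd.trans ?_ (dvd_pow_sub (by norm_num : 12 ∣ 24))
  refine ⟨q ^ 4 - 1, ?_⟩
  have h1 : 1 ≤ q ^ 4 := Nat.one_le_pow _ _ hq
  have h2 : 1 ≤ q ^ 12 := Nat.one_le_pow _ _ hq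
  zify [h1, h2]
  ring

/-- **Small exceptional groups, `N = 5`.** -/
theorem no_small (H : Hyp 5 S) (hB : Big 5 S) {q : ℕ} (hq : IsPrimePow q) (hdq : q ∣ Nat.card S) {a m : ℕ}
    (hc : Nat.card S ∣ q ^ a * (q ^ 24 - 1) ^ m) (hsub : (∀ k, q = 2 ^ (5 * k) → ∃ t : ℕ, t.Prime ∧ t ∉ ({2, 3, 5, 7, 13, 41, 61} : Finset ℕ) ∧
      t ∣ Nat.card S) ∧ (∀ k u, q = u ^ (5 * k) → u ≠ 2 → u ≠ 11 → u.Prime → ∃ t : ℕ, t.Prime ∧
        t ∉ ({2, 3, 5, 7, 13, 41, 61} : Finset ℕ) ∧ t ∣ Nat.card S)) : False := by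
  obtain ⟨u, k, hu, hk, rfl⟩ := hq
  rw [← Nat.prime_iff] at hu
  have hud : u ∣ Nat.card S := (dvd_pow_self u hk.ne').trans hdq
  have hmem : u ∈ ({2, 3, 5, 7, 13, 41, 61} : Finset ℕ) := by
    have := pi_five H hu hud
    simp only [Finset.mem_insert, Finset.mem_singleton]
    exact this
  have key : ∀ t : ℕ, t.Prime → t ∣ Nat.card S → u ≠ t → t ∣ u ^ (24 * k) - 1 := by
    intro t ht hd hut
    rcases ht.dvd_mul.1 (hd.trans hc) with h | h
    · exfalso
      have h1 := ht.dvd_of_dvd_pow (ht.dvd_of_dvd_pow h)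
      exact hut ((Nat.prime_dvd_prime_iff_eq ht hu).1 h1).symm
    · have h1 := ht.dvd_of_dvd_pow h
      rwa [← pow_mul, mul_comm k 24] at h1
  have h5 : 5 ∣ k := five_dvd hmem (key 41 (by norm_num) (hB _ _ (Or.inr rfl) prim41))
    (key 61 (by norm_num) (hB _ _ (Or.inl rfl) prim61))
  obtain ⟨j, rfl⟩ := h5
  obtain ⟨t, ht, hn, hd⟩ : ∃ t : ℕ, t.Prime ∧ t ∉ ({2, 3, 5, 7, 13, 41, 61} : Finset ℕ) ∧ t ∣ Nat.card S := by
    by_cases h2 : u = 2
    · exact hsub.1 j (by rw [h2])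
    · refine hsub.2 j u rfl h2 ?_ hu
      rintro rfl
      revert hmem
      decide
  exact not_five H ht hn hd

/-- `11 ∣ q ^ 2 - 1` -/
theorem eleven_dvd {u k : ℕ} (hu : u.Prime) (h : u ≠ 11) : 11 ∣ (u ^ (5 * k)) ^ 2 - 1 := by
  rw [← pow_mul, dvd_sub_iff hu.one_lt.le]
  have : Fact (Nat.Prime 11) := ⟨by norm_num⟩
  have h1 : ((u : ℕ) : ZMod 11) ≠ 0 := by
    rw [Ne, ZMod.natCast_eq_zero_iff]
    intro hd
    exact h ((Nat.prime_dvd_prime_iff_eq (by norm_num) hu).1 hd).symm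
  rw [show 5 * k * 2 = 10 * k by ring, pow_mul, show (10 : ℕ) = 11 - 1 by norm_num,
    ZMod.pow_card_sub_one_eq_one h1, one_pow]

theorem both {q c : ℕ} (h : ∀ t, t ∣ q ^ 2 - 1 → t ∣ c) :
    (∀ k, q = 2 ^ (5 * k) → ∃ t : ℕ, t.Prime ∧ t ∉ ({2, 3, 5, 7, 13, 41, 61} : Finset ℕ) ∧ t ∣ c) ∧
    (∀ k u, q = u ^ (5 * k) → u ≠ 2 → u ≠ 11 → u.Prime → ∃ t : ℕ, t.Prime ∧
        t ∉ ({2, 3, 5, 7, 13, 41, 61} : Finset ℕ) ∧ t ∣ c) := by
  refine ⟨fun k hk => ⟨11, by norm_num, by decide, h _ ?_⟩, fun k u hk _ h11 hu => ⟨11, by norm_num, by decide, h _ ?_⟩⟩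
  · rw [hk]
    exact eleven_dvd Nat.prime_two (by norm_num)
  · rw [hk]
    exact eleven_dvd hu h11

/-! ### The minus type groups -/

theorem eq_of_minus {n : ℕ} (H : Hyp N S) (hN : N.Prime) (h5 : 5 ≤ N) (hB : Big N S) {m : ℕ} (hm : m.Prime)
    (hm4 : 4 ≤ m) (he : den (.ominus m 3) * Nat.card S = num (.ominus m 3)) : m = N := by
  have h0 : N ≤ m := by
    obtain ⟨s, hs⟩ := exists_prim (q := 3) (e := 2 * N) (by norm_num) (by omega) (by omega)
    have h1 := (dvd_iff (q := 3) (by norm_num) (by omega) hs (g := .ominus m 3) rfl he).1 (hB _ _ (Or.inl rfl) hs)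
    rcases h1 with ⟨h1, -⟩ | ⟨k, hk1, hk2, hk⟩
    · have := Nat.le_of_dvd (by omega) h1
      omega
    · have := Nat.le_of_dvd (by omega) hk
      omega
  rcases Nat.lt_or_ge N m with h | h
  · exfalso
    obtain ⟨w, hw⟩ := exists_prim (q := 3) (e := 2 * m) (by norm_num) (by omega) (by omega)
    have h1 := (dvd_iff (q := 3) (by norm_num) (by omega) hw (g := .ominus m 3) rfl he).2
      (K_even (by omega) le_rfl)
    have h2 := H.pi w hw.prime (hw.ne_two (by omega) (by decide)) (by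
      rintro rfl
      exact hw.not_dvd dvd_rfl) h1
    rw [orderOf_of_prim (by norm_num) hw] at h2
    have := K_le (by omega) h2
    omega
  · omega

/-- **The simple section is `²D_N(3)`.** -/
theorem elim {S : Type*} [Group S] {N n : ℕ} (hN : N.Prime) (h5 : 5 ≤ N) (hn : N = 2 ^ n + 1)
    {g : Grp} (hg : IsNamed g S) (H : Hyp N S)
    (hA : (Nonempty (S ≃* alternatingGroup (Fin 7)) ∨ (∃ (F : Type) (_ : Field F) (_ : Fintype F),
      Odd (Fintype.card F) ∧ Nonempty (S ≃* Matrix.ProjectiveSpecialLinearGroup (Fin 2) F))) ∨ Big N S) :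
    ∃ (F : Type) (_ : Field F) (_ : Fintype F) (a b : F), Fintype.card F = 3 ∧ An a b ∧
      Nonempty (S ≃* POmega F (quadFormMinus (N - 1) F a b)) := by
  have hc := cases_N hN hn h5
  rcases hA with hA | hB
  · exfalso
    rcases hA with ⟨⟨e⟩⟩ | ⟨F, _, _, -, ⟨e⟩⟩
    · exact no_alt_seven H hc e
    · exact no_psl_two H hc e
  obtain ⟨r, s, T⟩ := H.exists_two hc hB
  obtain ⟨hr, hcond, heq, hord⟩ := hg
  have spr : g ∈ spor.map (fun x => x.1) → False := fun h => no_spor hc hB hord h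
  have h17 : N ≠ 5 → N = 17 ∨ 257 ≤ N := fun h => hc.resolve_left h
  cases g with
  | alt m =>
    obtain ⟨e⟩ := hr
    exact (no_alt H hc hB e).elim
  | psl m q =>
    obtain ⟨F, _, _, hF, ⟨e⟩⟩ := hr
    rcases Nat.lt_or_ge 2 m with h | h
    · exact (T.no_psl h e).elim
    · obtain rfl : m = 2 := le_antisymm h hcond.1
      exact (no_psl_two H hc e).elim
  | psp m q =>
    obtain ⟨F, i1, i2, hF, e⟩ := hr
    exact (T.no_psp ⟨F, i1, i2, m, hcond.1, by rw [hF]; exact hcond.2.1, e⟩).elim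
  | psu m q =>
    obtain ⟨F, i1, i2, hF, e⟩ := hr
    exact (T.no_psu ⟨F, i1, i2, m, q, hF, hcond.1, hcond.2.1, e⟩).elim
  | oodd m q =>
    obtain ⟨F, i1, i2, hF, e⟩ := hr
    exact (T.no_oodd ⟨F, i1, i2, m, hcond.1, by rw [hF]; exact hcond.2.1, e⟩).elim
  | oplus m q =>
    obtain ⟨F, i1, i2, hF, e⟩ := hr
    exact (T.no_oplus ⟨F, i1, i2, m, hcond.1, e⟩).elim
  | ominus m q =>
    obtain ⟨F, i1, i2, a, b, hF, hab, e⟩ := hr
    rcases Cfsg.Agent.H182.Orth.conn_of_isPOmegaMinus (S := S) ⟨F, i1, i2, m, a, b, hcond.1, hab, e⟩ with h | h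
    · exfalso
      rcases h T.pr T.ps T.r2 T.s2 T.dr T.ds with h | h | h
      · exact T.c1 h
      · exact T.c2 h
      · exact T.c3 h
    · obtain ⟨F', j1, j2, m', a', b', hF', hm', -, hm4, hab', ⟨e'⟩⟩ := h
      have h1 := ominus_eq (F := F') (m := m') hm4 hab'
      rw [← Nat.card_congr e'.toEquiv, hF'] at h1
      obtain rfl := eq_of_minus (n := n) H hN h5 hB hm' hm4 h1
      exact ⟨F', j1, j2, a', b', hF', hab', ⟨e'⟩⟩
  | g2 q =>
    exfalso
    obtain ⟨F, i1, i2, hF, ⟨e⟩⟩ := hr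
    rcases eq_or_ne N 5 with rfl | h
    · have h1 : Nat.card S = q ^ 6 * ((q ^ 2 - 1) * (q ^ 6 - 1)) := by
        have : 1 * Nat.card S = q ^ 6 * ((q ^ 2 - 1) * (q ^ 6 - 1)) := heq
        rwa [one_mul] at this
      refine no_small H hB hcond.2 (h1 ▸ (dvd_pow_self q (by norm_num)).mul_right _) (a := 6) (m := 2)
        ?_ (both fun t ht => ?_)
      · rw [h1, pow_two (q ^ 24 - 1)]
        exact mul_dvd_mul_left _ (mul_dvd_mul (dvd_pow_sub (by norm_num)) (dvd_pow_sub (by norm_num)))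
      · rw [h1]
        exact (ht.mul_right _).mul_left _
    · exact no_cover H (h17 h) (q := q) hcond.2 (hF ▸ (Cfsg.Agent.H168.ExcCover.g2_cover (F := F)).congr e) (by norm_num)
  | f4 q =>
    exfalso
    obtain ⟨F, i1, i2, hF, ⟨e⟩⟩ := hr
    rcases eq_or_ne N 5 with rfl | h
    · have h1 : Nat.card S = q ^ 24 * ((q ^ 2 - 1) * (q ^ 6 - 1) * (q ^ 8 - 1) * (q ^ 12 - 1)) := by
        have : 1 * Nat.card S = q ^ 24 * ((q ^ 2 - 1) * (q ^ 6 - 1) * (q ^ 8 - 1) * (q ^ 12 - 1)) := heq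
        rwa [one_mul] at this
      refine no_small H hB hcond (h1 ▸ (dvd_pow_self q (by norm_num)).mul_right _) (a := 24) (m := 4)
        ?_ (both fun t ht => ?_)
      · rw [h1, show (q ^ 24 - 1) ^ 4 = (q ^ 24 - 1) * (q ^ 24 - 1) * (q ^ 24 - 1) * (q ^ 24 - 1) by ring]
        exact mul_dvd_mul_left _ (mul_dvd_mul (mul_dvd_mul (mul_dvd_mul (dvd_pow_sub (by norm_num))
          (dvd_pow_sub (by norm_num))) (dvd_pow_sub (by norm_num))) (dvd_pow_sub (by norm_num)))
      · rw [h1]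
        exact (((ht.mul_right _).mul_right _).mul_right _).mul_left _
    · exact no_cover H (h17 h) (q := q) hcond (hF ▸ (Cfsg.Agent.H168.ExcCover.f4_cover (F := F)).congr e) (by norm_num)
  | e6 q =>
    exfalso
    obtain ⟨F, i1, i2, hF, ⟨e⟩⟩ := hr
    rcases eq_or_ne N 5 with rfl | h
    · exact no_nine H (g := .e6 q) hcond.one_lt heq (d := 9) (by norm_num) (by norm_num)
        (Or.inr (Or.inr (Or.inr (Or.inr (Or.inl (by norm_num))))))
    · exact no_cover H (h17 h) (q := q) hcond (hF ▸ (Cfsg.Agent.H168.ExcCover.e6_cover (F := F)).congr e) (by norm_num)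
  | e7 q =>
    exfalso
    obtain ⟨F, i1, i2, hF, ⟨e⟩⟩ := hr
    rcases eq_or_ne N 5 with rfl | h
    · exact no_nine H (g := .e7 q) hcond.one_lt heq (d := 9) (by norm_num) (by norm_num)
        (Or.inr (Or.inr (Or.inr (Or.inr (Or.inr (Or.inr (by norm_num)))))))
    · exact no_cover H (h17 h) (q := q) hcond (hF ▸ (Cfsg.Agent.H168.ExcCover.e7_cover (F := F)).congr e) (by norm_num)
  | e8 q =>
    exfalso
    obtain ⟨F, i1, i2, hF, ⟨e⟩⟩ := hr
    rcases hc with rfl | rfl | h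
    · exact no_nine H (g := .e8 q) hcond.one_lt heq (d := 9) (by norm_num) (by norm_num)
        (Or.inr (Or.inr (Or.inr (Or.inr (Or.inl (by norm_num))))))
    · exact no_E8_seventeen H hB e
    · exact no_cover H (Or.inr h) (q := q) hcond (hF ▸ (Cfsg.Agent.H168.ExcCover.e8_cover (F := F)).congr e)
        (Or.inr ⟨h, by norm_num⟩)
  | te6 q =>
    exfalso
    obtain ⟨F, i1, i2, hF, ⟨e⟩⟩ := hr
    rcases eq_or_ne N 5 with rfl | h
    · exact no_nine H (g := .te6 q) hcond.one_lt heq (d := 18) (by norm_num) (by norm_num)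
        (Or.inr (Or.inr (Or.inr (Or.inr (Or.inl ⟨by norm_num, by norm_num⟩)))))
    · exact no_cover H (h17 h) (q := q) hcond ((Cfsg.Agent.H168.TwCover.te6_cover (F := F) hF hcond).congr e)
        (by norm_num)
  | td4 q =>
    exfalso
    obtain ⟨F, i1, i2, hF, ⟨e⟩⟩ := hr
    rcases eq_or_ne N 5 with rfl | h
    · have h1 : Nat.card S = q ^ 12 * ((q ^ 2 - 1) * (q ^ 6 - 1) * (q ^ 8 + q ^ 4 + 1)) := by
        have : 1 * Nat.card S = q ^ 12 * ((q ^ 2 - 1) * (q ^ 6 - 1) * (q ^ 8 + q ^ 4 + 1)) := heq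
        rwa [one_mul] at this
      refine no_small H hB hcond (h1 ▸ (dvd_pow_self q (by norm_num)).mul_right _) (a := 12) (m := 3)
        ?_ (both fun t ht => ?_)
      · rw [h1, show (q ^ 24 - 1) ^ 3 = (q ^ 24 - 1) * (q ^ 24 - 1) * (q ^ 24 - 1) by ring]
        exact mul_dvd_mul_left _ (mul_dvd_mul (mul_dvd_mul (dvd_pow_sub (by norm_num))
          (dvd_pow_sub (by norm_num))) (td4_dvd hcond.one_lt.le))
      · rw [h1]
        exact ((ht.mul_right _).mul_right _).mul_left _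
    · exact no_cover H (h17 h) (q := q) hcond ((Cfsg.Agent.H168.TwCover.td4_cover (F := F) hF hcond).congr e)
        (by norm_num)
  | sz q =>
    exfalso
    obtain ⟨F, i1, i2, m, hm, hF, hq, ⟨e⟩⟩ := hr
    rcases eq_or_ne N 5 with rfl | h
    · have h1 : Nat.card S = q ^ 2 * ((q - 1) * (q ^ 2 + 1)) := by
        have : 1 * Nat.card S = q ^ 2 * ((q - 1) * (q ^ 2 + 1)) := heq
        rwa [one_mul] at this
      have hpp : IsPrimePow q := hq ▸ (Nat.prime_two.isPrimePow.pow (by omega))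
      refine no_small H hB hpp (h1 ▸ (dvd_pow_self q (by norm_num)).mul_right _) (a := 2) (m := 2)
        ?_ ⟨fun k hk => ⟨31, by norm_num, by decide, ?_⟩, fun k u hk h2 _ hu => ?_⟩
      · rw [h1, pow_two (q ^ 24 - 1)]
        refine mul_dvd_mul_left _ (mul_dvd_mul ?_ (add_dvd (by norm_num)))
        have := dvd_pow_sub (q := q) (show 1 ∣ 24 by norm_num)
        rwa [pow_one] at this
      · rw [h1]
        have h31 : 31 ∣ q - 1 := by
          rw [hk]
          exact (show 31 ∣ 2 ^ 5 - 1 by norm_num).trans (dvd_pow_sub (dvd_mul_right _ _))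
        exact (h31.mul_right _).mul_left _
      · exfalso
        have h3 : u ∣ 2 := by
          have h4 : u ∣ 2 ^ (2 * m + 1) := by
            rw [← hq, hk]
            refine dvd_pow_self u ?_
            intro h0
            rw [h0, pow_zero] at hk
            exact hpp.one_lt.ne' hk
          exact hu.dvd_of_dvd_pow h4
        exact h2 ((Nat.prime_dvd_prime_iff_eq hu Nat.prime_two).1 h3)
    · exact no_cover H (h17 h) (q := 2) Nat.prime_two.isPrimePow
        (Cfsg.Agent.H168.TwF4Cover.cover_suzuki ⟨F, i1, i2, m, hm, by rw [hF, hq], ⟨e⟩⟩) (by norm_num)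
  | ree q =>
    exfalso
    obtain ⟨F, i1, i2, m, hm, hF, hq, ⟨e⟩⟩ := hr
    rcases eq_or_ne N 5 with rfl | h
    · have h1 : Nat.card S = q ^ 3 * ((q - 1) * (q ^ 3 + 1)) := by
        have : 1 * Nat.card S = q ^ 3 * ((q - 1) * (q ^ 3 + 1)) := heq
        rwa [one_mul] at this
      have hpp : IsPrimePow q := hq ▸ (Nat.prime_three.isPrimePow.pow (by omega))
      have h3 : ∀ k u, q = u ^ (5 * k) → u.Prime → u = 3 := by
        intro k u hk hu
        have h4 : u ∣ 3 ^ (2 * m + 1) := by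
          rw [← hq, hk]
          refine dvd_pow_self u ?_
          intro h0
          rw [h0, pow_zero] at hk
          exact hpp.one_lt.ne' hk
        exact (Nat.prime_dvd_prime_iff_eq hu Nat.prime_three).1 (hu.dvd_of_dvd_pow h4)
      refine no_small H hB hpp (h1 ▸ (dvd_pow_self q (by norm_num)).mul_right _) (a := 3) (m := 2)
        ?_ ⟨fun k hk => ?_, fun k u hk h2 _ hu => ⟨11, by norm_num, by decide, ?_⟩⟩
      · rw [h1, pow_two (q ^ 24 - 1)]
        refine mul_dvd_mul_left _ (mul_dvd_mul ?_ (add_dvd (by norm_num)))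
        have := dvd_pow_sub (q := q) (show 1 ∣ 24 by norm_num)
        rwa [pow_one] at this
      · have := h3 k 2 hk Nat.prime_two
        omega
      · obtain rfl := h3 k u hk hu
        rw [h1]
        have h31 : 11 ∣ q - 1 := by
          rw [hk]
          exact (show 11 ∣ 3 ^ 5 - 1 by norm_num).trans (dvd_pow_sub (dvd_mul_right _ _))
        exact (h31.mul_right _).mul_left _
    · exact no_cover H (h17 h) (q := 3) Nat.prime_three.isPrimePow
        (Cfsg.Agent.H168.TwF4Cover.cover_ree ⟨F, i1, i2, m, hm, by rw [hF, hq], ⟨e⟩⟩) (by norm_num)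
  | tf4 q =>
    exfalso
    obtain ⟨F, i1, i2, m, hm, hF, hq, ⟨e⟩⟩ := hr
    rcases eq_or_ne N 5 with rfl | h
    · have h1 : Nat.card S = q ^ 12 * ((q - 1) * (q ^ 3 + 1) * (q ^ 4 - 1) * (q ^ 6 + 1)) := by
        have : 1 * Nat.card S = q ^ 12 * ((q - 1) * (q ^ 3 + 1) * (q ^ 4 - 1) * (q ^ 6 + 1)) := heq
        rwa [one_mul] at this
      have hpp : IsPrimePow q := hq ▸ (Nat.prime_two.isPrimePow.pow (by omega))
      refine no_small H hB hpp (h1 ▸ (dvd_pow_self q (by norm_num)).mul_right _) (a := 12) (m := 4)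
        ?_ (both fun t ht => ?_)
      · rw [h1, show (q ^ 24 - 1) ^ 4 = (q ^ 24 - 1) * (q ^ 24 - 1) * (q ^ 24 - 1) * (q ^ 24 - 1) by ring]
        refine mul_dvd_mul_left _ (mul_dvd_mul (mul_dvd_mul (mul_dvd_mul ?_
          (add_dvd (by norm_num))) (dvd_pow_sub (by norm_num))) (add_dvd (by norm_num)))
        have := dvd_pow_sub (q := q) (show 1 ∣ 24 by norm_num)
        rwa [pow_one] at this
      · rw [h1]
        have ht' : t ∣ q ^ 4 - 1 := ht.trans (dvd_pow_sub (by norm_num))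
        exact ((ht'.mul_left _).mul_right _).mul_left _
    · exact no_cover H (h17 h) (q := 2) Nat.prime_two.isPrimePow
        ((Cfsg.Agent.H168.TwF4Cover.tf4_cover (F := F) (by rw [hF, hq])).congr e) (by norm_num)
  | _ => exact (spr (by decide)).elim

end

end Cfsg.Agent.H977.Dp
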