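import Cfsg.Agent.H977.MnTab

/-!
# The tables for `n = 7, 9, 11, 13` (helper977, for S3477)
-/

set_option autoImplicit false

namespace Cfsg.Agent.H977.MnTab

open Cfsg.Agent.H414.Arith

def ch7 : List (ℕ × ℕ × List (ℕ × ℕ)) :=
  [(105310750819, 7, [(2, 1), (3, 1), (7, 1), (13, 1), (41, 1), (1549, 1), (3037, 1)]),
   (9829, 10, [(2, 2), (3, 3), (7, 1), (13, 1)])]

def fs7 : List (List (ℕ × ℕ)) :=
  [[(2, 3)],
   [(2, 4), (5, 1)],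
   [(2, 3), (7, 1), (13, 1)],
   [(2, 5), (5, 1), (41, 1)],
   [(2, 3), (11, 2), (61, 1)],
   [(2, 4), (5, 1), (7, 1), (13, 1), (73, 1)]]

def ws7 : List (ℕ × ℕ × ℕ × List (ℕ × ℕ)) :=
  [(2, 547, 105310750819, [(2, 1), (3, 1), (7, 1), (13, 1)]),
   (5, 547, 9829, [(2, 1), (3, 1), (7, 1), (13, 1)]),
   (7, 73, 193, [(2, 3), (3, 1)]),
   (11, 547, 79, [(3, 1), (13, 1)]),
   (13, 547, 43, [(3, 1), (7, 1)]),
   (41, 73, 19, [(2, 1), (3, 2)]),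
   (61, 73, 37, [(2, 2), (3, 2)]),
   (73, 547, 3823, [(3, 1), (7, 1), (13, 1)]),
   (547, 73, 19, [(2, 1), (3, 2)])]

theorem tab7 : tabB 7 ch7 fs7 [(2, 2), (547, 1)] [(2, 1), (7, 1)] [(2, 2), (3, 1)] ws7 [] = true := by decide +kernel

def ch9 : List (ℕ × ℕ × List (ℕ × ℕ)) :=
  [(493249, 23, [(2, 6), (3, 1), (7, 1), (367, 1)]),
   (30853, 2, [(2, 2), (3, 2), (857, 1)]),
   (12401, 3, [(2, 4), (5, 2), (31, 1)])]

def fs9 : List (List (ℕ × ℕ)) :=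
  [[(2, 3)],
   [(2, 4), (5, 1)],
   [(2, 3), (7, 1), (13, 1)],
   [(2, 5), (5, 1), (41, 1)],
   [(2, 3), (11, 2), (61, 1)],
   [(2, 4), (5, 1), (7, 1), (13, 1), (73, 1)],
   [(2, 3), (547, 1), (1093, 1)],
   [(2, 6), (5, 1), (17, 1), (41, 1), (193, 1)]]

def ws9 : List (ℕ × ℕ × ℕ × List (ℕ × ℕ)) :=
  [(2, 37, 109, [(2, 2), (3, 2)]),
   (5, 19, 829, [(3, 2)]),
   (7, 37, 1063, [(3, 2)]),
   (11, 193, 257, [(2, 6)]),
   (13, 19, 271, [(2, 1), (3, 2)]),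
   (17, 37, 109, [(2, 2), (3, 2)]),
   (19, 17, 3833, [(2, 3)]),
   (37, 193, 493249, [(2, 6), (3, 1)]),
   (41, 19, 30853, [(2, 1), (3, 2)]),
   (61, 17, 12401, [(2, 4)]),
   (73, 19, 181, [(3, 2)]),
   (193, 19, 163, [(2, 1), (3, 2)]),
   (547, 37, 229, [(2, 2), (3, 1)]),
   (1093, 17, 1873, [(2, 4)])]

theorem tab9 : tabB 9 ch9 fs9 [(2, 2), (7, 1), (19, 1), (37, 1)] [(2, 1), (3, 2)] [(2, 4)] ws9 [] = true := by decide +kernel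

def ch11 : List (ℕ × ℕ × List (ℕ × ℕ)) :=
  [(20857, 10, [(2, 3), (3, 1), (11, 1), (79, 1)]),
   (43661, 2, [(2, 2), (5, 1), (37, 1), (59, 1)]),
   (64901, 2, [(2, 2), (5, 2), (11, 1), (59, 1)]),
   (61261, 2, [(2, 2), (3, 1), (5, 1), (1021, 1)]),
   (222595201, 14, [(2, 7), (3, 2), (5, 2), (59, 1), (131, 1)]),
   (4159, 3, [(2, 1), (3, 3), (7, 1), (11, 1)]),
   (7507, 2, [(2, 1), (3, 3), (139, 1)]),
   (30029, 2, [(2, 2), (7507, 1)]),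
   (3963829, 2, [(2, 2), (3, 1), (11, 1), (30029, 1)])]

def fs11 : List (List (ℕ × ℕ)) :=
  [[(2, 3)],
   [(2, 4), (5, 1)],
   [(2, 3), (7, 1), (13, 1)],
   [(2, 5), (5, 1), (41, 1)],
   [(2, 3), (11, 2), (61, 1)],
   [(2, 4), (5, 1), (7, 1), (13, 1), (73, 1)],
   [(2, 3), (547, 1), (1093, 1)],
   [(2, 6), (5, 1), (17, 1), (41, 1), (193, 1)],
   [(2, 3), (7, 1), (13, 1), (19, 1), (37, 1), (757, 1)],
   [(2, 4), (5, 2), (11, 2), (61, 1), (1181, 1)]]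

def ws11 : List (ℕ × ℕ × ℕ × List (ℕ × ℕ)) :=
  [(2, 67, 20857, [(2, 1), (3, 1), (11, 1)]),
   (5, 67, 23, [(2, 1), (11, 1)]),
   (7, 661, 1409, [(2, 2), (11, 1)]),
   (11, 661, 1453, [(3, 1), (11, 1)]),
   (13, 67, 331, [(2, 1), (3, 1), (11, 1)]),
   (17, 67, 3697, [(3, 1), (11, 1)]),
   (19, 67, 2113, [(3, 1), (11, 1)]),
   (37, 1181, 43661, [(2, 1), (5, 1), (59, 1)]),
   (41, 1181, 64901, [(5, 1), (59, 1)]),
   (61, 661, 61261, [(2, 2), (3, 1), (5, 1)]),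
   (67, 1181, 222595201, [(2, 2), (5, 1), (59, 1)]),
   (73, 67, 4159, [(3, 1), (11, 1)]),
   (193, 67, 23, [(11, 1)]),
   (547, 661, 3963829, [(3, 1), (11, 1)]),
   (661, 67, 23, [(2, 1), (11, 1)]),
   (757, 67, 1123, [(2, 1), (3, 1), (11, 1)]),
   (1093, 67, 199, [(3, 1), (11, 1)]),
   (1181, 67, 353, [(2, 1), (11, 1)])]

theorem tab11 : tabB 11 ch11 fs11 [(2, 2), (67, 1), (661, 1)] [(2, 1), (11, 1)] [(2, 2), (5, 1)] ws11 [] = true := by decide +kernel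

def ch13 : List (ℕ × ℕ × List (ℕ × ℕ)) :=
  [(6481, 7, [(2, 4), (3, 4), (5, 1)]),
   (398581, 2, [(2, 2), (3, 1), (5, 1), (7, 1), (13, 1), (73, 1)]),
   (9721, 7, [(2, 3), (3, 5), (5, 1)]),
   (18701, 2, [(2, 2), (5, 2), (11, 1), (17, 1)]),
   (112207, 5, [(2, 1), (3, 1), (18701, 1)]),
   (44723466061, 6, [(2, 2), (3, 1), (5, 1), (7, 1), (13, 1), (73, 1), (112207, 1)]),
   (15121, 11, [(2, 4), (3, 3), (5, 1), (7, 1)]),
   (2780256961, 7, [(2, 6), (3, 4), (5, 1), (13, 1), (37, 1), (223, 1)]),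
   (45361, 11, [(2, 4), (3, 4), (5, 1), (7, 1)]),
   (13551721, 11, [(2, 3), (3, 1), (5, 1), (7, 1), (13, 1), (17, 1), (73, 1)]),
   (56941, 2, [(2, 2), (3, 1), (5, 1), (13, 1), (73, 1)]),
   (9491, 2, [(2, 1), (5, 1), (13, 1), (73, 1)]),
   (797161, 17, [(2, 3), (3, 1), (5, 1), (7, 1), (13, 1), (73, 1)]),
   (68041, 22, [(2, 3), (3, 5), (5, 1), (7, 1)]),
   (84977257, 11, [(2, 3), (3, 1), (7, 1), (13, 2), (41, 1), (73, 1)]),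
   (17383, 5, [(2, 1), (3, 1), (2897, 1)]),
   (540424258921, 11, [(2, 3), (3, 2), (5, 1), (7, 1), (13, 2), (73, 1), (17383, 1)]),
   (1133677, 2, [(2, 2), (3, 4), (3499, 1)]),
   (514513, 5, [(2, 4), (3, 4), (397, 1)])]

def fs13 : List (List (ℕ × ℕ)) :=
  [[(2, 3)],
   [(2, 4), (5, 1)],
   [(2, 3), (7, 1), (13, 1)],
   [(2, 5), (5, 1), (41, 1)],
   [(2, 3), (11, 2), (61, 1)],
   [(2, 4), (5, 1), (7, 1), (13, 1), (73, 1)],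
   [(2, 3), (547, 1), (1093, 1)],
   [(2, 6), (5, 1), (17, 1), (41, 1), (193, 1)],
   [(2, 3), (7, 1), (13, 1), (19, 1), (37, 1), (757, 1)],
   [(2, 4), (5, 2), (11, 2), (61, 1), (1181, 1)],
   [(2, 3), (23, 1), (67, 1), (661, 1), (3851, 1)],
   [(2, 5), (5, 1), (7, 1), (13, 1), (41, 1), (73, 1), (6481, 1)]]

def ws13 : List (ℕ × ℕ × ℕ × List (ℕ × ℕ)) :=
  [(2, 6481, 9721, [(2, 1), (3, 4), (5, 1)]),
   (5, 6481, 811, [(3, 4), (5, 1)]),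
   (7, 398581, 44723466061, [(2, 1), (3, 1), (7, 1), (13, 1), (73, 1)]),
   (11, 6481, 1297, [(2, 4), (3, 3)]),
   (13, 6481, 15121, [(2, 4), (3, 3), (5, 1)]),
   (17, 6481, 2780256961, [(2, 3), (3, 4), (5, 1)]),
   (19, 6481, 45361, [(2, 4), (3, 4), (5, 1)]),
   (23, 398581, 13551721, [(2, 2), (3, 1), (5, 1), (7, 1), (13, 1), (73, 1)]),
   (37, 398581, 56941, [(2, 2), (5, 1), (13, 1), (73, 1)]),
   (41, 398581, 9491, [(5, 1), (13, 1), (73, 1)]),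
   (61, 398581, 797161, [(2, 2), (3, 1), (5, 1), (7, 1), (13, 1), (73, 1)]),
   (67, 6481, 1621, [(2, 2), (3, 4), (5, 1)]),
   (73, 6481, 68041, [(2, 3), (3, 4), (5, 1)]),
   (193, 398581, 84977257, [(2, 1), (3, 1), (7, 1), (13, 1), (73, 1)]),
   (661, 398581, 540424258921, [(2, 2), (3, 1), (5, 1), (7, 1), (13, 1), (73, 1)]),
   (757, 6481, 2161, [(2, 3), (3, 2), (5, 1)]),
   (1093, 6481, 1133677, [(2, 2), (3, 4)]),
   (1181, 6481, 514513, [(2, 2), (3, 4)]),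
   (3851, 6481, 1621, [(2, 2), (3, 3), (5, 1)]),
   (6481, 398581, 9491, [(2, 1), (5, 1), (13, 1), (73, 1)]),
   (398581, 6481, 811, [(3, 4), (5, 1)])]

theorem tab13 : tabB 13 ch13 fs13 [(2, 2), (398581, 1)] [(2, 1), (13, 1)] [(2, 3), (3, 1)] ws13 [547] = true := by decide +kernel

end Cfsg.Agent.H977.MnTab
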