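import Cfsg.Agent.H977.MnClose
import Cfsg.Agent.H977.MnTabs
import Cfsg.Agent.H977.DpPslTwo
import Cfsg.Agent.H168.TwF4Cover

/-!
# Cross characteristic elimination for `L = ²D_n(3)`, `n = 7, 9, 11, 13` (helper977, for S3477)

`cross_small` : `S` is of Lie type over a field of characteristic three.
-/

set_option autoImplicit false

namespace Cfsg.Agent.H977.Mn

open Cfsg Cfsg.Agent.H436 Cfsg.Agent.OrdDiv Cfsg.Agent.H72 Cfsg.Agent.H420.QR Cfsg.Agent.H376.Coc
open Cfsg.Agent.H977.MnTab Cfsg.Agent.H414.Arith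
open Cfsg.Agent.H425.Chr (qOf)
open Cfsg.Agent.H977.Dp (dvd_sub_iff orderOf_of_prim prim_of_orderOf prim_pos prim_lt prim_dvd_sub)

universe u v

/-- the characteristic divides the order -/
theorem char_dvd {S : Type u} [Group S] {g : Grp} (hg : IsNamed g S) {p f : ℕ} (hp : p.Prime) (hf : f ≠ 0)
    (hq : qOf g = p ^ f) : p ∣ Nat.card S := by
  have hpq : p ∣ p ^ f := dvd_pow_self p hf
  have hq2 : 2 ≤ p ^ f := hp.two_le.trans (Nat.le_self_pow hf p)
  have key : ∀ {d c M : ℕ}, d * c = M → ¬ p ∣ d → p ∣ M → p ∣ c := fun h1 h2 h3 =>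
    (hp.dvd_mul.1 (h1 ▸ h3)).resolve_left h2
  have heq := hg.eq
  have hcond := hg.cond
  have h1p : ¬ p ∣ 1 := fun h => hp.one_lt.ne' (Nat.dvd_one.1 h)
  have hsub : ∀ {k : ℕ}, k ≠ 0 → ¬ p ∣ (p ^ f) ^ k - 1 := fun {k} hk h => by
    have h3 := Nat.dvd_sub (dvd_pow hpq hk) h
    rw [Nat.sub_sub_self (Nat.one_le_pow _ _ (by omega))] at h3
    exact h1p h3
  have hadd : ∀ {k : ℕ}, k ≠ 0 → ¬ p ∣ (p ^ f) ^ k + 1 := fun {k} hk h =>
    h1p ((Nat.dvd_add_right (dvd_pow hpq hk)).1 h)
  have hs1 : ¬ p ∣ p ^ f - 1 := by simpa using hsub (k := 1) one_ne_zero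
  have ha1 : ¬ p ∣ p ^ f + 1 := by simpa using hadd (k := 1) one_ne_zero
  have hgs : ∀ n, ¬ p ∣ Nat.gcd n (p ^ f - 1) := fun n h => hs1 (h.trans (Nat.gcd_dvd_right _ _))
  have hga : ∀ n, ¬ p ∣ Nat.gcd n (p ^ f + 1) := fun n h => ha1 (h.trans (Nat.gcd_dvd_right _ _))
  have hM : ∀ {a M : ℕ}, a ≠ 0 → p ∣ (p ^ f) ^ a * M := fun ha => (dvd_pow hpq ha).mul_right _
  cases g with
  | psl m q' =>
    obtain rfl : q' = p ^ f := hq
    change Nat.gcd m (p ^ f - 1) * (p ^ f - 1) * Nat.card S = glN m (p ^ f) at heq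
    refine key heq ?_ ?_
    · rw [hp.dvd_mul]
      rintro (h3 | h3)
      · exact hgs _ h3
      · exact hs1 h3
    · have hm : 2 ≤ m := hcond.1
      have h3 : ((p ^ f) ^ m - (p ^ f) ^ (m - 1)) ∣ glN m (p ^ f) := by
        unfold glN
        exact List.dvd_prod (List.mem_map.2 ⟨m - 1, List.mem_range.2 (by omega), rfl⟩)
      refine Dvd.dvd.trans ?_ h3
      exact Nat.dvd_sub (dvd_pow hpq (by omega)) (dvd_pow hpq (by omega))
  | psp m q' =>
    obtain rfl : q' = p ^ f := hq
    exact key heq (hgs _) (hM (by have := hcond.1; positivity))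
  | psu m q' =>
    obtain rfl : q' = p ^ f := hq
    change Nat.gcd m (p ^ f + 1) * (p ^ f + 1) * Nat.card S = (p ^ f) ^ (m * (m - 1) / 2) * prU (p ^ f) m at heq
    have hm : 3 ≤ m := hcond.1
    refine key heq ?_ (hM ?_)
    · rw [hp.dvd_mul]
      rintro (h3 | h3)
      · exact hga _ h3
      · exact ha1 h3
    · have : 2 * 1 ≤ m * (m - 1) := Nat.mul_le_mul (by omega) (by omega)
      omega
  | oodd m q' =>
    obtain rfl : q' = p ^ f := hq
    have heq' : 2 * Nat.card S = (p ^ f) ^ (m ^ 2) * prB (p ^ f) m := heq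
    refine key heq' (fun h => ?_) (hM (by have := hcond.1; positivity))
    have h2 := (Nat.prime_dvd_prime_iff_eq hp Nat.prime_two).1 h
    subst h2
    exact (Nat.not_even_iff_odd.2 hcond.2.1) ((Nat.even_pow.2 ⟨even_two, hf⟩))
  | oplus m q' =>
    obtain rfl : q' = p ^ f := hq
    have hm : 4 ≤ m := hcond.1
    exact key heq (fun h => hsub (k := m) (by omega) (h.trans (Nat.gcd_dvd_right _ _)))
      (hM (Nat.mul_ne_zero (by omega) (by omega)))
  | ominus m q' =>
    obtain rfl : q' = p ^ f := hq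
    have hm : 4 ≤ m := hcond.1
    exact key heq (fun h => hadd (k := m) (by omega) (h.trans (Nat.gcd_dvd_right _ _)))
      (hM (Nat.mul_ne_zero (by omega) (by omega)))
  | g2 q' => obtain rfl : q' = p ^ f := hq; exact key heq h1p (hM (by norm_num))
  | f4 q' => obtain rfl : q' = p ^ f := hq; exact key heq h1p (hM (by norm_num))
  | e6 q' => obtain rfl : q' = p ^ f := hq; exact key heq (hgs _) (hM (by norm_num))
  | e7 q' => obtain rfl : q' = p ^ f := hq; exact key heq (hgs _) (hM (by norm_num))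
  | e8 q' => obtain rfl : q' = p ^ f := hq; exact key heq h1p (hM (by norm_num))
  | te6 q' => obtain rfl : q' = p ^ f := hq; exact key heq (hga _) (hM (by norm_num))
  | td4 q' => obtain rfl : q' = p ^ f := hq; exact key heq h1p (hM (by norm_num))
  | sz q' => obtain rfl : q' = p ^ f := hq; exact key heq h1p (hM (by norm_num))
  | ree q' => obtain rfl : q' = p ^ f := hq; exact key heq h1p (hM (by norm_num))
  | tf4 q' => obtain rfl : q' = p ^ f := hq; exact key heq h1p (hM (by norm_num))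
  | _ => exfalso; change 0 = p ^ f at hq; omega

section

variable {F : Type v} [Field F] [Fintype F] {n : ℕ} {a b : F} {S : Type u} [Group S]

theorem split_class (hn : 2 ≤ n) {k x : ℕ} (h : Prim 3 k x) (hk : 0 < k) (hok : Okm n k) :
    (∃ j, 1 ≤ j ∧ j ≤ n - 1 ∧ x ∣ 9 ^ j - 1) ∨ x ∣ 3 ^ n + 1 := by
  have key : ∀ j, k ∣ 2 * j → x ∣ 9 ^ j - 1 := fun j hj => by
    have := h.dvd hj
    rwa [pow_mul] at this
  rcases hok with ⟨h1, h2⟩ | ⟨h1, h2⟩
  · exact Or.inl ⟨k, hk, h2, key k (Dvd.intro_left _ rfl)⟩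
  · obtain ⟨j, rfl⟩ : ∃ j, k = 2 * j := ⟨k / 2, by omega⟩
    rcases Nat.lt_or_ge j n with h3 | h3
    · exact Or.inl ⟨j, by omega, by omega, key j dvd_rfl⟩
    · obtain rfl : j = n := by omega
      exact Or.inr (dvd_add (by norm_num) (by omega) h)

theorem pi_small (h : SHyp (POmega F (quadFormMinus (n - 1) F a b)) S) (hF : Fintype.card F = 3) (hab : Ani a b)
    (hn : 5 ≤ n) {x : ℕ} (hx : x.Prime) (hx3 : x ≠ 3) (hd : x ∣ Nat.card S) :
    (∃ j, 1 ≤ j ∧ j ≤ n - 1 ∧ x ∣ 9 ^ j - 1) ∨ x ∣ 3 ^ n + 1 := by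
  by_cases h2 : x = 2
  · subst h2
    exact Or.inl ⟨1, le_rfl, by omega, by norm_num⟩
  · have h3 : 3 < x := by
      have := hx.two_le
      omega
    have h4 := prim_ee (q := 3) (by norm_num) hx (not_dvd_three h3)
    exact split_class (by omega) h4 (prim_pos (by norm_num) h4) (okm h hF hab (by omega) hx h3 hd)

/-- the elimination of a characteristic with the table -/
theorem no_char (h : SHyp (POmega F (quadFormMinus (n - 1) F a b)) S) (hF : Fintype.card F = 3) (hab : Ani a b)
    (hn : 5 ≤ n) (hodd : n % 2 = 1) (hA : ¬ Cfsg.Agent.H414.Rad.AltL2 S) {g : Grp} (hg : IsNamed g S)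
    (hsz : ∀ q, g ≠ .sz q) {p f : ℕ} (hp : p.Prime) (hp3 : p ≠ 3) (hf : f ≠ 0) (hq : qOf g = p ^ f)
    {ch : List (ℕ × ℕ × List (ℕ × ℕ))} {fs : List (List (ℕ × ℕ))} {ft l1 l2 : List (ℕ × ℕ)}
    {ws : List (ℕ × ℕ × ℕ × List (ℕ × ℕ))} {ex : List ℕ} (ht : tabB n ch fs ft l1 l2 ws ex = true) : p ∈ ex := by
  have hpS := char_dvd hg hp hf hq
  rcases tab_spec ht hp (pi_small h hF hab hn hp hp3 hpS) with h1 | ⟨w, x, e, he, hw, hx, htop, hx5, hx1, hx2⟩
  · exact h1
  · exfalso
    have hwS : w ∣ Nat.card S := by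
      rcases htop with h2 | h2
      · exact big h hF hab hn hodd hA (Or.inl rfl) h2
      · exact big h hF hab hn hodd hA (Or.inr rfl) h2
    have hxS := dvd_of_same hg hp hf hq hsz hw hx hx5 hwS
    rcases pi_small h hF hab hn hx.prime (by omega) hxS with ⟨j, hj1, hj2, hj⟩ | hj
    · exact hx1 j hj1 hj2 hj
    · exact hx2 hj

/-- a small coclique of `S` -/
theorem exists_four (h : SHyp (POmega F (quadFormMinus (n - 1) F a b)) S) (hF : Fintype.card F = 3) (hab : Ani a b)
    (hn : n = 7 ∨ n = 9 ∨ n = 11 ∨ n = 13) : ∃ ρ : Finset ℕ, IsCoc S ρ ∧ (∀ r ∈ ρ, 3 < r) ∧ 4 ≤ ρ.card := by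
  have h1 : 5 ≤ (TM n).card := by
    rcases hn with rfl | rfl | rfl | rfl <;> decide +kernel
  obtain ⟨ρ, h2, h3, h4⟩ := max0 h hF hab (by omega) (by omega)
  exact ⟨ρ, coc_of_coq h2, h3, by omega⟩

theorem not_altL2' (h : SHyp (POmega F (quadFormMinus (n - 1) F a b)) S) (hF : Fintype.card F = 3) (hab : Ani a b)
    (hn : n = 7 ∨ n = 9 ∨ n = 11 ∨ n = 13) : ¬ Cfsg.Agent.H414.Rad.AltL2 S := by
  obtain ⟨ρ, h1, h3, h4⟩ := exists_four h hF hab hn
  rintro (⟨⟨e⟩⟩ | ⟨F', _, _, -, ⟨e⟩⟩)
  · have hc := Nat.card_congr e.toEquiv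
    have hsub : ρ ⊆ {5, 7} := fun x hx => by
      have h5 := h3 x hx
      have h6 : x ≤ 7 := alt_dvd_le (h1.prime x hx) (hc ▸ h1.dvd x hx)
      have h7 := h1.prime x hx
      simp only [Finset.mem_insert, Finset.mem_singleton]
      interval_cases x
      · exact absurd h7 (by norm_num)
      · exact Or.inl rfl
      · exact absurd h7 (by norm_num)
      · exact Or.inr rfl
    have := Finset.card_le_card hsub
    have h8 : ({5, 7} : Finset ℕ).card = 2 := by decide
    omega
  · have := (Dp.psl2_coc e h1 h3).1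
    omega

/-- two primes of the top classes far apart -/
theorem exists_pair (hn : n = 7 ∨ n = 9 ∨ n = 11 ∨ n = 13) : ∃ e r e' s, Top n e ∧ Top n e' ∧ Prim 3 e r ∧
    Prim 3 e' s ∧ r + 3 ≤ s ∧ 72 ≤ s := by
  have key : ∀ {e r : ℕ} (l : List (ℕ × ℕ)), (Nat.beq (H414.Arith.prodl l) e && ordB 3 r l) = true → r.Prime →
      Prim 3 e r := fun l h hr => prim_of_ordB' l h (by norm_num) hr
  rcases hn with rfl | rfl | rfl | rfl
  · exact ⟨12, 73, 14, 547, Or.inr rfl, Or.inl rfl, key [(2, 2), (3, 1)] (by decide +kernel) (by norm_num),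
      key [(2, 1), (7, 1)] (by decide +kernel) (by norm_num), by norm_num, by norm_num⟩
  · exact ⟨16, 17, 16, 193, Or.inr rfl, Or.inr rfl, key [(2, 4)] (by decide +kernel) (by norm_num),
      key [(2, 4)] (by decide +kernel) (by norm_num), by norm_num, by norm_num⟩
  · exact ⟨22, 67, 22, 661, Or.inl rfl, Or.inl rfl, key [(2, 1), (11, 1)] (by decide +kernel) (by norm_num),
      key [(2, 1), (11, 1)] (by decide +kernel) (by norm_num), by norm_num, by norm_num⟩
  · exact ⟨24, 6481, 26, 398581, Or.inr rfl, Or.inl rfl, key [(2, 3), (3, 1)] (by decide +kernel) (by norm_num),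
      key [(2, 1), (13, 1)] (by decide +kernel) (by norm_num), by norm_num, by norm_num⟩

/-- `n = 13`, characteristic `547` -/
theorem no_547 (h : SHyp (POmega F (quadFormMinus (13 - 1) F a b)) S) (hF : Fintype.card F = 3) (hab : Ani a b)
    {g : Grp} (hg : IsNamed g S) (hsz : ∀ q, g ≠ .sz q) {f : ℕ} (hf : f ≠ 0) (hq : qOf g = 547 ^ f) : False := by
  have key : ∀ {b e r : ℕ} (l : List (ℕ × ℕ)), (Nat.beq (H414.Arith.prodl l) e && ordB b r l) = true → 1 ≤ b →
      r.Prime → Prim b e r := fun l h hb hr => prim_of_ordB' l h hb hr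
  have p1 : Prim 3 9 757 := key [(3, 2)] (by decide +kernel) (by norm_num) (by norm_num)
  have p2 : Prim 3 18 37 := key [(2, 1), (3, 2)] (by decide +kernel) (by norm_num) (by norm_num)
  have p3 : Prim 3 26 398581 := key [(2, 1), (13, 1)] (by decide +kernel) (by norm_num) (by norm_num)
  have e1 := e3_of_prim p1
  have e2 := e3_of_prim p2
  have e3' := e3_of_prim p3
  have hcoq : IsCoq (POmega F (quadFormMinus (13 - 1) F a b)) {757, 37, 398581} := by
    have far : ∀ {r s : ℕ}, r.Prime → s.Prime → 3 < r → 3 < s → r ≠ s → Far 13 (e3 r) (e3 s) →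
        ¬ ∃ x : POmega F (quadFormMinus (13 - 1) F a b), orderOf x = r * s :=
      fun hr hs h3 h4 hrs hfar => nonadj_of_far hF hab (by norm_num) hr hs h3 h4 hrs hfar
    refine ⟨?_, ?_, ?_⟩
    · intro r hr
      simp only [Finset.mem_insert, Finset.mem_singleton] at hr
      rcases hr with rfl | rfl | rfl <;> norm_num
    · intro r hr
      simp only [Finset.mem_insert, Finset.mem_singleton] at hr
      rcases hr with rfl | rfl | rfl
      · exact (dvd_L_iff hF hab (by norm_num) (by norm_num) (by norm_num)).2 (by rw [e1]; decide)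
      · exact (dvd_L_iff hF hab (by norm_num) (by norm_num) (by norm_num)).2 (by rw [e2]; decide)
      · exact (dvd_L_iff hF hab (by norm_num) (by norm_num) (by norm_num)).2 (by rw [e3']; decide)
    · intro r hr s hs hrs
      simp only [Finset.mem_insert, Finset.mem_singleton] at hr hs
      rcases hr with rfl | rfl | rfl <;> rcases hs with rfl | rfl | rfl
      · exact absurd rfl hrs
      · exact far (by norm_num) (by norm_num) (by norm_num) (by norm_num) hrs (by rw [e1, e2]; decide)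
      · exact far (by norm_num) (by norm_num) (by norm_num) (by norm_num) hrs (by rw [e1, e3']; decide)
      · exact far (by norm_num) (by norm_num) (by norm_num) (by norm_num) hrs (by rw [e1, e2]; decide)
      · exact absurd rfl hrs
      · exact far (by norm_num) (by norm_num) (by norm_num) (by norm_num) hrs (by rw [e2, e3']; decide)
      · exact far (by norm_num) (by norm_num) (by norm_num) (by norm_num) hrs (by rw [e1, e3']; decide)
      · exact far (by norm_num) (by norm_num) (by norm_num) (by norm_num) hrs (by rw [e2, e3']; decide)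
      · exact absurd rfl hrs
  have hp : Nat.Prime 547 := by norm_num
  have key2 : ∀ {w x e : ℕ}, Prim 547 e w → Prim 547 e x → 5 ≤ x → w ∣ Nat.card S → x ∣ Nat.card S :=
    fun hw hx hx5 hd => dvd_of_same hg hp hf hq hsz hw hx hx5 hd
  have hno : ∀ {x k : ℕ}, Prim 3 k x → 3 < x → ¬ Okm 13 k → ¬ x ∣ Nat.card S := fun {x k} hx h3 hk hd => by
    apply hk
    rw [← e3_of_prim hx]
    exact okm h hF hab (by norm_num) hx.prime h3 hd
  by_cases h1 : 757 ∣ Nat.card S
  · have q1 : Prim 547 126 757 := key [(2, 1), (3, 2), (7, 1)] (by decide +kernel) (by norm_num) (by norm_num)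
    have q2 : Prim 547 126 127 := key [(2, 1), (3, 2), (7, 1)] (by decide +kernel) (by norm_num) (by norm_num)
    have q3 : Prim 3 126 127 := key [(2, 1), (3, 2), (7, 1)] (by decide +kernel) (by norm_num) (by norm_num)
    exact hno q3 (by norm_num) (by decide) (key2 q1 q2 (by norm_num) h1)
  · by_cases h2 : 37 ∣ Nat.card S
    · have q1 : Prim 547 12 37 := key [(2, 2), (3, 1)] (by decide +kernel) (by norm_num) (by norm_num)
      have q2 : Prim 547 12 229 := key [(2, 2), (3, 1)] (by decide +kernel) (by norm_num) (by norm_num)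
      have q3 : Prim 3 57 229 := key [(3, 1), (19, 1)] (by decide +kernel) (by norm_num) (by norm_num)
      exact hno q3 (by norm_num) (by decide) (key2 q1 q2 (by norm_num) h2)
    · have := h.coc _ hcoq (by decide) 757 (by decide) 37 (by decide) h1 h2
      omega

/-- **`n = 7, 9, 11, 13`: the characteristic of `S` is three.** -/
theorem cross_small (h : SHyp (POmega F (quadFormMinus (n - 1) F a b)) S) (hF : Fintype.card F = 3) (hab : Ani a b)
    (hn : n = 7 ∨ n = 9 ∨ n = 11 ∨ n = 13) {g : Grp} (hg : IsNamed g S) :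
    ∃ f : ℕ, f ≠ 0 ∧ qOf g = 3 ^ f := by
  have hA := not_altL2' h hF hab hn
  have h5 : 5 ≤ n := by omega
  have hodd : n % 2 = 1 := by omega
  obtain ⟨e, r, e', s, he, he', hr, hs, hrs, h72⟩ := exists_pair hn
  have hrS := big h hF hab h5 hodd hA he hr
  have hsS := big h hF hab h5 hodd hA he' hs
  have spr : g ∈ spor.map (fun x => x.1) → False := fun h' => by
    obtain ⟨x, hx, rfl⟩ := List.mem_map.1 h'
    have hd := hsS
    rw [hg.ord.trans (spor_ord x hx)] at hd
    have h7 : ∀ x ∈ spor, x.2 ∣ (Nat.factorial 71) ^ 46 := by decide +kernel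
    have := (hs.prime.dvd_factorial).1 (hs.prime.dvd_of_dvd_pow (hd.trans (h7 x hx)))
    omega
  have lie : IsPrimePow (qOf g) → (∀ q, g ≠ .sz q) → ∃ f : ℕ, f ≠ 0 ∧ qOf g = 3 ^ f := by
    rintro ⟨p, f, hp, hf, hpf⟩ hsz
    have hp' : p.Prime := hp.nat_prime
    by_cases h3 : p = 3
    · exact ⟨f, by omega, by rw [← hpf, h3]⟩
    · exfalso
      have hn' := hn
      rcases hn' with rfl | rfl | rfl | rfl
      · exact List.not_mem_nil (no_char h hF hab h5 hodd hA hg hsz hp' h3 (by omega) hpf.symm tab7)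
      · exact List.not_mem_nil (no_char h hF hab h5 hodd hA hg hsz hp' h3 (by omega) hpf.symm tab9)
      · exact List.not_mem_nil (no_char h hF hab h5 hodd hA hg hsz hp' h3 (by omega) hpf.symm tab11)
      · have := no_char h hF hab h5 hodd hA hg hsz hp' h3 (by omega) hpf.symm tab13
        rw [List.mem_singleton] at this
        subst this
        exact no_547 h hF hab hg hsz (by omega) hpf.symm
  have hcond := hg.cond
  cases g with
  | alt m =>
    exfalso
    obtain ⟨e1⟩ := hg.real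
    have hc := Nat.card_congr e1.toEquiv
    have hsm : s ≤ m := alt_dvd_le hs.prime (hc ▸ hsS)
    have hr3 := three_lt hr (by rcases he with rfl | rfl <;> omega)
    obtain ⟨x, hx⟩ := alt_adj (m := m) (r := 3) (s := r) (by norm_num) hr.prime (by norm_num) (by omega)
      (by omega) (by omega)
    exact sec_three h hF hab h5 he hr ⟨e1.symm x, by rw [MulEquiv.orderOf_eq, hx]⟩
  | psl m q => exact lie hcond.2.2 (fun _ h => by cases h)
  | psp m q => exact lie hcond.2.2 (fun _ h => by cases h)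
  | psu m q => exact lie hcond.2.2 (fun _ h => by cases h)
  | oodd m q => exact lie hcond.2.2 (fun _ h => by cases h)
  | oplus m q => exact lie hcond.2 (fun _ h => by cases h)
  | ominus m q => exact lie hcond.2 (fun _ h => by cases h)
  | g2 q => exact lie hcond.2 (fun _ h => by cases h)
  | f4 q => exact lie hcond (fun _ h => by cases h)
  | e6 q => exact lie hcond (fun _ h => by cases h)
  | e7 q => exact lie hcond (fun _ h => by cases h)
  | e8 q => exact lie hcond (fun _ h => by cases h)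
  | te6 q => exact lie hcond (fun _ h => by cases h)
  | td4 q => exact lie hcond (fun _ h => by cases h)
  | sz q =>
    exfalso
    obtain ⟨F', i1, i2, m, hm, hF', hq, ⟨e1⟩⟩ := hg.real
    have hcov : Cover S 2 3 :=
      Cfsg.Agent.H168.TwF4Cover.cover_suzuki ⟨F', i1, i2, m, hm, by rw [hF', hq], ⟨e1⟩⟩
    obtain ⟨ρ, h1, h3, h4⟩ := exists_four h hF hab hn
    have h6 := hcov.card_le ρ (fun r hr => ⟨h1.prime r hr, h3 r hr, fun hd => by
      have := Nat.le_of_dvd (by norm_num) hd
      have := h3 r hr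
      omega, h1.dvd r hr⟩) h1.indep
    omega
  | ree q =>
    obtain ⟨m, hm, hq⟩ := hcond
    exact lie (hq ▸ Nat.prime_three.isPrimePow.pow (by omega)) (fun _ h => by cases h)
  | tf4 q =>
    obtain ⟨m, hm, hq⟩ := hcond
    exact lie (hq ▸ Nat.prime_two.isPrimePow.pow (by omega)) (fun _ h => by cases h)
  | _ => exact (spr (by decide)).elim

end

end Cfsg.Agent.H977.Mn
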