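import Cfsg.Agent.H150.FarOrthThree
import Cfsg.Agent.H958.FourCycle
import Cfsg.Agent.H182.CentAll
import Cfsg.Agent.S2474
import Cfsg.Agent.S2469

/-!
# Non-adjacency in the prime graph of `PΩ⁻_{2n}(q)` (helper977, for S3651)

* `ne_two_mul_full` : `e(r, q) = 2n`, `q ^ n ≡ 3` modulo `8`-ish: no elements of order `2 r`;
* `ne_char_mul_full`, `ne_char_mul_partial` : no elements of order `p r`, `p` the characteristic, `e(r, q) = 2n` or
  `2(n-1)`;
* `exists_psp` : elements of odd order in `PΩ^ε_{2n}(q)` give elements of the same order in `PSp_{2n}(q)`.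
-/

set_option autoImplicit false
set_option linter.style.haveILetI false
set_option linter.unusedSectionVars false

namespace Cfsg.Agent.H977.Minus

open Module Cfsg
open Cfsg.Agent.LieClassical.OrthCount Cfsg.Agent.LieClassical.OmegaReindex
open Cfsg.Agent.ClassicalGeometry.SpinorSign
open Cfsg.Agent.H377 Cfsg.Agent.H150

variable {F : Type*} [Field F]

/-- an element of the commutator subgroup with square `-1` -/
theorem eight_dvd [Finite F] (h2 : (2 : F) ≠ 0) {ι : Type} [Fintype ι] [DecidableEq ι]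
    (Q : QuadraticForm F (ι → F)) (hQ : (QuadraticMap.polarBilin Q).Nondegenerate) (hn : 2 ≤ Fintype.card ι)
    (y : OG Q) (hy : y ∈ commutator (OG Q))
    (hyy : ∀ v, (y : (ι → F) ≃ₗ[F] (ι → F)) ((y : (ι → F) ≃ₗ[F] (ι → F)) v) = -v) :
    8 ∣ Nat.card {v : ι → F // Q v = 1} := by
  classical
  obtain ⟨g, rfl⟩ := (isometryGroupEquiv Q).surjective y
  have hg : g ∈ Cfsg.Omega F (⇑Q) := (mem_commutator_congr (isometryGroupEquiv Q) g).1 hy
  have hs := ((Cfsg.Agent.ClassicalGeometry.OmegaIndex.mem_Omega_iff h2 Q hQ hn one_ne_zero g).1 hg).2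
  have : Finite (ι → F) := inferInstance
  letI : Fintype {x : ι → F // Q x = 1} := Fintype.ofFinite _
  rw [spinorSign_apply] at hs
  set σ := quadricPerm (⇑Q) 1 g with hσ
  have hval : ∀ a : {x : ι → F // Q x = 1}, ((σ (σ a) : {x : ι → F // Q x = 1}) : ι → F) = -(a : ι → F) :=
    fun a => hyy a.1
  have h1 : ∀ a, σ (σ a) ≠ a := by
    intro a ha
    have h3 : -(a : ι → F) = a := by rw [← hval, ha]
    have h5 : (2 : F) • (a : ι → F) = 0 := by
      rw [two_smul]
      nth_rewrite 1 [← h3]
      exact neg_add_cancel _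
    have h6 := (smul_eq_zero.1 h5).resolve_left h2
    have h7 := a.2
    rw [h6, QuadraticMap.map_zero] at h7
    exact zero_ne_one h7
  have h4 : ∀ a, σ (σ (σ (σ a))) = a := by
    intro a
    apply Subtype.ext
    rw [hval, hval, neg_neg]
  obtain ⟨k, hk, hsg⟩ := Cfsg.Agent.H958.sign_four σ h1 h4
  rw [hs] at hsg
  have hev : Even k := by
    by_contra hodd
    rw [Nat.not_even_iff_odd] at hodd
    rw [hodd.neg_one_pow] at hsg
    exact absurd hsg (by decide)
  obtain ⟨j, rfl⟩ := hev
  rw [Nat.card_eq_fintype_card, hk]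
  exact ⟨j, by ring⟩

section

variable {ι : Type} [Fintype ι] [DecidableEq ι]

/-- `e(r, q) = 2n`, no elements of order `2 r` -/
theorem ne_two_mul_full [Finite F] (h2 : (2 : F) ≠ 0) (Q : QuadraticForm F (ι → F))
    (hQ : (QuadraticMap.polarBilin Q).Nondegenerate) {n : ℕ} (hdim : finrank F (ι → F) = 2 * n)
    (hs : ∃ u : ι → F, u ≠ 0 ∧ Q u = 0) {r : ℕ} (hr : r.Prime) (hr2 : r ≠ 2) (hrF : (r : F) ≠ 0) (hn : 2 ≤ n)
    (hk : orderOf ((Nat.card F : ℕ) : ZMod r) = 2 * n) (h8 : ¬ 8 ∣ Nat.card {v : ι → F // Q v = 1})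
    (g : POmega F (⇑Q)) : orderOf g ≠ 2 * r := by
  have hι : Fintype.card ι = 2 * n := by rw [← hdim]; simp
  refine pomega_ne_of Q hQ (by omega) hs hr hr2 ?_ g
  intro X Y x y hXx hYy hxy hX hx hx1 hxQ hyQ hY hY2
  have hxM := (range_inv (x := x) (y := x) (fun v => rfl)).1
  have h1 := dvd_finrank_of_fpf_submodule hr x hx _ hxM (fpf_range hrF x hx)
  rw [hk] at h1
  have hM := finrank_range_le_of_dvd hx1 h1 hdim (by omega)
  have htop : LinearMap.range (x - 1) = ⊤ := Submodule.eq_top_of_finrank_eq (hM.trans hdim.symm)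
  have hf : ∀ v, x v = v → v = 0 := fun v hv => fpf_range hrF x hx v (by rw [htop]; trivial) hv
  have hirr := irr_of_dvd hr x hx hf (by rw [hk, hdim])
  haveI : Nontrivial (ι → F) := by
    rw [← Module.finrank_pos_iff (R := F), hdim]
    omega
  have hcomm : Commute x y := LinearMap.ext hxy
  rcases hY2 with h | h
  · rcases irr_eq_one_or_neg_one x y hcomm hirr (LinearMap.ext fun v => h v) with h' | h'
    · left; intro v; rw [h']; rfl
    · right; intro v; rw [h']; rfl
  · exfalso
    exact h8 (eight_dvd h2 Q hQ (by omega) Y hY fun v => by rw [hYy, hYy]; exact h v)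

end

section Char

variable {V : Type*} [AddCommGroup V] [Module F V] [FiniteDimensional F V]

/-- a unipotent isometry of a nondegenerate plane is trivial -/
theorem plane_unip (h2 : (2 : F) ≠ 0) (Q : QuadraticForm F V) (hnd : ND Q) (hV : finrank F V = 2) (u : V →ₗ[F] V)
    (huQ : ∀ v, Q (u v) = Q v) (hu : IsNilpotent (u - 1)) : u = 1 := by
  by_contra hne
  have hB : ∀ v w, QuadraticMap.polarBilin Q (u v) (u w) = QuadraticMap.polarBilin Q v w :=
    fun v w => polar_isom Q u huQ v w
  have hR : LinearMap.range (u - 1) ≠ ⊥ := by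
    intro h
    rw [LinearMap.range_eq_bot, sub_eq_zero] at h
    exact hne h
  obtain ⟨w, ⟨c, hc⟩, hw0, hw⟩ := exists_ker_of_isNilpotent (u - 1) hu (LinearMap.range (u - 1))
    (fun w _ => LinearMap.mem_range_self _ _) hR
  have huw : u w = w := by
    rw [LinearMap.sub_apply, Module.End.one_apply, sub_eq_zero] at hw
    exact hw
  have huc : u c = c + w := by
    rw [LinearMap.sub_apply, Module.End.one_apply, sub_eq_iff_eq_add] at hc
    rw [hc, add_comm]
  have h1 : QuadraticMap.polarBilin Q w w = 0 := by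
    have h3 := hB w c
    rw [huw, huc, map_add] at h3
    exact left_eq_add.1 h3.symm
  have hQw : Q w = 0 := by
    have h3 : QuadraticMap.polar Q w w = 0 := h1
    rw [QuadraticMap.polar_self] at h3
    have h4 : (2 : F) * Q w = 0 := by
      rw [← h3]
      simp [two_smul, two_mul]
    exact (mul_eq_zero.1 h4).resolve_left h2
  have h5 : QuadraticMap.polarBilin Q w c = 0 := by
    have h3 := huQ c
    rw [huc] at h3
    have h4 : QuadraticMap.polar Q c w = 0 := by
      rw [QuadraticMap.polar, h3, hQw]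
      ring
    show QuadraticMap.polar Q w c = 0
    rw [QuadraticMap.polar_comm]
    exact h4
  have hli : LinearIndependent F ![c, w] := by
    rw [LinearIndependent.pair_iff]
    intro s t hst
    have h6 : (u - 1) (s • c + t • w) = (u - 1) 0 := by rw [hst]
    rw [map_add, map_smul, map_smul, hc, hw, smul_zero, add_zero, map_zero] at h6
    have hs := (smul_eq_zero.1 h6).resolve_right hw0
    rw [hs, zero_smul, zero_add] at hst
    exact ⟨hs, (smul_eq_zero.1 hst).resolve_right hw0⟩
  have hsp := hli.span_eq_top_of_card_eq_finrank (by rw [hV]; rfl)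
  apply hw0
  apply hnd
  intro v
  have hv : v ∈ Submodule.span F (Set.range ![c, w]) := by rw [hsp]; trivial
  have hle : Submodule.span F (Set.range ![c, w]) ≤ LinearMap.ker (QuadraticMap.polarBilin Q w) := by
    rw [Submodule.span_le]
    rintro _ ⟨i, rfl⟩
    fin_cases i
    · exact h5
    · exact h1
  exact hle hv

/-- the irreducible part: a unipotent map commuting with `x` is trivial on `[V, x]` -/
theorem unip_range [Finite F] {r : ℕ} (hr : r.Prime) (hrF : (r : F) ≠ 0) (x u : V →ₗ[F] V)
    (hxu : ∀ v, x (u v) = u (x v)) (hx : x ^ r = 1) (hx1 : x ≠ 1) (hu : IsNilpotent (u - 1))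
    (hk : finrank F (LinearMap.range (x - 1)) ≤ orderOf ((Nat.card F : ℕ) : ZMod r)) :
    ∀ v ∈ LinearMap.range (x - 1), u v = v := by
  have huM := (range_inv hxu).1
  have hxM := (range_inv (x := x) (y := x) (fun v => rfl)).1
  have hM0 : LinearMap.range (x - 1) ≠ ⊥ := by
    intro h
    rw [LinearMap.range_eq_bot, sub_eq_zero] at h
    exact hx1 h
  have hfpf := fpf_range hrF x hx
  have hinv : ∀ w ∈ LinearMap.range (x - 1), (u - 1) w ∈ LinearMap.range (x - 1) := fun w hw =>
    Submodule.sub_mem _ (huM w hw) hw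
  obtain ⟨w, hwM, hw0, hw⟩ := exists_ker_of_isNilpotent (u - 1) hu _ hinv hM0
  set M := LinearMap.range (x - 1) with hM
  have hxM1 : (x.restrict hxM) ^ r = 1 := restrict_pow_eq_one hxM hx
  have hf' : ∀ v : M, x.restrict hxM v = v → v = 0 := fun v hv =>
    Subtype.ext (hfpf v v.2 (congrArg Subtype.val hv))
  have hirr := irr_of_dvd hr (x.restrict hxM) hxM1 hf' hk (LinearMap.ker (u.restrict huM - 1)) (by
    intro v hv
    rw [LinearMap.mem_ker, LinearMap.sub_apply, Module.End.one_apply, sub_eq_zero] at hv ⊢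
    apply Subtype.ext
    have h3 : u (v : V) = v := congrArg Subtype.val hv
    show u (x (v : V)) = x (v : V)
    rw [← hxu, h3])
  rcases hirr with h | h
  · exfalso
    have h3 : (⟨w, hwM⟩ : M) ∈ LinearMap.ker (u.restrict huM - 1) := by
      rw [LinearMap.mem_ker, LinearMap.sub_apply, Module.End.one_apply, sub_eq_zero]
      apply Subtype.ext
      rw [LinearMap.sub_apply, Module.End.one_apply, sub_eq_zero] at hw
      exact hw
    rw [h, Submodule.mem_bot] at h3
    exact hw0 (congrArg Subtype.val h3)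
  · intro v hv
    have h3 : (⟨v, hv⟩ : M) ∈ LinearMap.ker (u.restrict huM - 1) := by rw [h]; trivial
    rw [LinearMap.mem_ker, LinearMap.sub_apply, Module.End.one_apply, sub_eq_zero] at h3
    exact congrArg Subtype.val h3

/-- **A unipotent isometry commuting with an isometry of prime order `r`, `e(r, q) ≥ dim V - 2`, is trivial.** -/
theorem unip_eq_one [Finite F] (h2 : (2 : F) ≠ 0) (Q : QuadraticForm F V) (hnd : ND Q) {r : ℕ} (hr : r.Prime)
    (hrF : (r : F) ≠ 0) (x u : V →ₗ[F] V)
    (hxu : ∀ v, x (u v) = u (x v)) (hx : x ^ r = 1) (hx1 : x ≠ 1) (hu : IsNilpotent (u - 1))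
    (hxQ : ∀ v, Q (x v) = Q v) (huQ : ∀ v, Q (u v) = Q v)
    (hk : finrank F (LinearMap.range (x - 1)) ≤ orderOf ((Nat.card F : ℕ) : ZMod r))
    (hC : finrank F (LinearMap.range (x - 1)) = finrank F V ∨ finrank F (LinearMap.range (x - 1)) + 2 = finrank F V) :
    u = 1 := by
  have hM := unip_range hr hrF x u hxu hx hx1 hu hk
  rcases hC with hC | hC
  · have htop : LinearMap.range (x - 1) = ⊤ := Submodule.eq_top_of_finrank_eq hC
    exact LinearMap.ext fun v => hM v (by rw [htop]; trivial)
  · have hcompl := isCompl_fix hrF x hx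
    have hsum := Submodule.finrank_add_eq_of_isCompl hcompl
    have hB : ∀ v w, QuadraticMap.polarBilin Q (x v) (x w) = QuadraticMap.polarBilin Q v w :=
      fun v w => polar_isom Q x hxQ v w
    have hCnd : ND (Q.comp (LinearMap.ker (x - 1)).subtype) := by
      intro u hu
      exact nondeg_ker hrF (QuadraticMap.polarBilin Q) (fun u hu => hnd u hu) x hx hB u (fun v => hu v)
    have huC := (range_inv hxu).2
    have h1 : u.restrict huC = 1 := by
      refine plane_unip h2 _ hCnd (by omega) (u.restrict huC) (fun v => huQ v) ?_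
      obtain ⟨k, hk⟩ := hu
      refine ⟨k, ?_⟩
      have h3 : u.restrict huC - 1 = (u - 1).restrict (fun v hv => Submodule.sub_mem _ (huC v hv) hv) := by
        ext v
        rfl
      rw [h3, Module.End.pow_restrict]
      ext v
      show ((u - 1) ^ k) (v : V) = 0
      rw [hk]
      rfl
    apply LinearMap.ext
    intro v
    obtain ⟨a, ha, b, hb, rfl⟩ := Submodule.mem_sup.1
      (show v ∈ LinearMap.ker (x - 1) ⊔ LinearMap.range (x - 1) by rw [hcompl.sup_eq_top]; trivial)
    have h3 : u a = a := congrArg Subtype.val (LinearMap.congr_fun h1 ⟨a, ha⟩)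
    rw [map_add, hM b hb, h3]
    rfl

end Char

end Cfsg.Agent.H977.Minus
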