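import Cfsg.Agent.H977.MnL
import Cfsg.Agent.H977.DpCoc
import Cfsg.Agent.H376.CocAlt
import Cfsg.Agent.H378.ExcAdj

/-!
# The primes of the classes `2 n`, `2 (n - 1)` for `L = ²D_n(3)`, `n` odd (helper977, for S3477)

* `two_nadj`, `three_nadj` : they are not adjacent to 2, 3;
* `big` : they divide `|S|`; `sec_two`, `sec_three`;
* `Nice n` : `n ≥ 17` odd, a prime of class `2 n` exceeds 71; sporadic and alternating `S`.
-/

set_option autoImplicit false

namespace Cfsg.Agent.H977.Mn

open Cfsg Cfsg.Agent.H436 Cfsg.Agent.OrdDiv Cfsg.Agent.H72 Cfsg.Agent.H420.QR Cfsg.Agent.H376.Coc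
open Cfsg.Agent.H977.Minus (An)
open Cfsg.Agent.H977.Dp (dvd_sub_iff orderOf_of_prim prim_of_orderOf prim_pos prim_lt prim_dvd_sub prim_of_pow)

universe u v

/-- the class is `2 n` or `2 (n - 1)` -/
abbrev Top (n e : ℕ) : Prop := e = 2 * n ∨ e = 2 * (n - 1)

theorem e3_of_prim {e r : ℕ} (h : Prim 3 e r) : e3 r = e := ee_eq_of_prim (by norm_num) h

theorem three_lt {e r : ℕ} (h : Prim 3 e r) (he : 2 ≤ e) : 3 < r := by
  have := prim_lt (by norm_num) h
  have h2 := h.prime.two_le
  by_contra hlt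
  have h3 : r = 2 ∨ r = 3 := by omega
  rcases h3 with rfl | rfl
  · omega
  · exact h.not_dvd dvd_rfl

/-- a primitive prime of class `2 m` divides `q ^ m + 1` -/
theorem dvd_add {q m r : ℕ} (hq : 1 ≤ q) (hm : m ≠ 0) (h : Prim q (2 * m) r) : r ∣ q ^ m + 1 := by
  have h1 : r ∣ q ^ (2 * m) - 1 := h.dvd dvd_rfl
  have h2 : ¬ r ∣ q ^ m - 1 := fun hd => by
    have := Nat.le_of_dvd (by omega) ((h.dvd_iff m).1 hd)
    omega
  rw [mul_comm 2 m, pow_mul, show (q ^ m) ^ 2 - 1 = (q ^ m + 1) * (q ^ m - 1) by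
    have := Nat.sq_sub_sq (q ^ m) 1
    rwa [one_pow] at this] at h1
  exact (h.prime.dvd_mul.1 h1).resolve_right h2

section L

variable {F : Type v} [Field F] [Fintype F] {n : ℕ} {a b : F}

theorem two_nadj (hF : Fintype.card F = 3) (hab : Ani a b) (hn : 5 ≤ n) (hodd : n % 2 = 1) {e r : ℕ} (he : Top n e)
    (hr : Prim 3 e r) : ¬ ∃ x : POmega F (quadFormMinus (n - 1) F a b), orderOf x = 2 * r := by
  rintro ⟨x, hx⟩
  have hF' : Nat.card F = 3 := by rw [Nat.card_eq_fintype_card, hF]
  have h3 := three_lt hr (by rcases he with rfl | rfl <;> omega)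
  refine Minus.ne_two_mul hF (by omega) (Nat.odd_iff.2 hodd) hab hr.prime (by omega) (by omega) ?_ x hx
  rw [hF', orderOf_of_prim (by norm_num) hr]
  rcases he with rfl | rfl
  · exact Or.inl rfl
  · exact Or.inr ⟨rfl, dvd_add (by norm_num) (by omega) hr⟩

theorem three_nadj (hF : Fintype.card F = 3) (hab : Ani a b) (hn : 5 ≤ n) {e r : ℕ} (he : Top n e)
    (hr : Prim 3 e r) : ¬ ∃ x : POmega F (quadFormMinus (n - 1) F a b), orderOf x = 3 * r := by
  rintro ⟨x, hx⟩
  have hF' : Nat.card F = 3 := by rw [Nat.card_eq_fintype_card, hF]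
  have h3 := three_lt hr (by rcases he with rfl | rfl <;> omega)
  refine Minus.ne_three_mul hF (by omega) hab hr.prime (by omega) (by omega) ?_ x hx
  rw [hF', orderOf_of_prim (by norm_num) hr]
  exact he

theorem dvd_L (hF : Fintype.card F = 3) (hab : Ani a b) (hn : 5 ≤ n) {e r : ℕ} (he : Top n e)
    (hr : Prim 3 e r) : r ∣ Nat.card (POmega F (quadFormMinus (n - 1) F a b)) := by
  rw [dvd_L_iff hF hab (by omega) hr.prime (three_lt hr (by rcases he with rfl | rfl <;> omega)), e3_of_prim hr]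
  unfold Okm
  rcases he with rfl | rfl <;> omega

variable {S : Type u} [Group S]

theorem big (h : SHyp (POmega F (quadFormMinus (n - 1) F a b)) S) (hF : Fintype.card F = 3) (hab : Ani a b)
    (hn : 5 ≤ n) (hodd : n % 2 = 1) (hA : ¬ Cfsg.Agent.H414.Rad.AltL2 S) {e r : ℕ} (he : Top n e)
    (hr : Prim 3 e r) : r ∣ Nat.card S := by
  have h3 := three_lt hr (by rcases he with rfl | rfl <;> omega)
  exact (h.two.resolve_left hA) r hr.prime (by omega) (dvd_L hF hab hn he hr) (two_nadj hF hab hn hodd he hr)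

theorem sec_two (h : SHyp (POmega F (quadFormMinus (n - 1) F a b)) S) (hF : Fintype.card F = 3) (hab : Ani a b)
    (hn : 5 ≤ n) (hodd : n % 2 = 1) {e r : ℕ} (he : Top n e) (hr : Prim 3 e r) :
    ¬ ∃ x : S, orderOf x = 2 * r := fun hx => by
  have h3 := three_lt hr (by rcases he with rfl | rfl <;> omega)
  exact two_nadj hF hab hn hodd he hr (h.adj 2 r Nat.prime_two hr.prime (by omega) hx)

theorem sec_three (h : SHyp (POmega F (quadFormMinus (n - 1) F a b)) S) (hF : Fintype.card F = 3) (hab : Ani a b)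
    (hn : 5 ≤ n) {e r : ℕ} (he : Top n e) (hr : Prim 3 e r) :
    ¬ ∃ x : S, orderOf x = 3 * r := fun hx => by
  have h3 := three_lt hr (by rcases he with rfl | rfl <;> omega)
  exact three_nadj hF hab hn he hr (h.adj 3 r Nat.prime_three hr.prime (by omega) hx)

theorem not_Adj (h : SHyp (POmega F (quadFormMinus (n - 1) F a b)) S) (hF : Fintype.card F = 3) (hab : Ani a b)
    (hn : 5 ≤ n) (hodd : n % 2 = 1) {e r : ℕ} (he : Top n e) (hr : Prim 3 e r) : ¬ H94.PG.Adj S r 2 := by
  rintro ⟨h1, h2, h3, x, y, hx, hy, hxy⟩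
  refine sec_two h hF hab hn hodd he hr ⟨y * x, ?_⟩
  rw [hxy.symm.orderOf_mul_eq_mul_orderOf_of_coprime (by rw [hx, hy]; exact (Nat.coprime_primes h2 h1).2 h3.symm),
    hx, hy]

end L

theorem coc_of_coq {G : Type*} [Group G] {ρ : Finset ℕ} (h : IsCoq G ρ) : IsCoc G ρ := ⟨h.prime, h.dvd, h.nadj⟩

/-! ### large primes of class `2 n` -/

/-- `n` prime or `n = 2 ^ k + 1`, what is used for `n ≥ 17` -/
def Good (n : ℕ) : Prop := n ≠ 21 ∧ n ≠ 15

theorem good_of {n : ℕ} (h : n.Prime ∨ ∃ k : ℕ, n = 2 ^ k + 1) : Good n := by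
  have key : ∀ m : ℕ, m = 15 ∨ m = 21 → n ≠ m := by
    rintro m hm rfl
    rcases h with h | ⟨k, hk⟩
    · rcases hm with rfl | rfl <;> revert h <;> norm_num
    · have h5 : k < 5 := by
        by_contra h5
        have := Nat.pow_le_pow_right (n := 2) (by norm_num) (show 5 ≤ k by omega)
        omega
      interval_cases k <;> omega
  exact ⟨key 21 (Or.inr rfl), key 15 (Or.inl rfl)⟩

theorem large {n s : ℕ} (hn : 17 ≤ n) (hodd : n % 2 = 1) (hg : Good n) (hs : Prim 3 (2 * n) s) : 72 ≤ s := by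
  by_contra hlt
  have h1 := prim_lt (by norm_num) hs
  obtain ⟨k, hk⟩ := prim_dvd_sub (by norm_num) hs
  have h2 := hs.prime.two_le
  have hk1 : k = 1 ∨ k = 2 := by
    rcases Nat.eq_zero_or_pos k with rfl | h
    · omega
    · by_contra h3
      have h4 : 3 ≤ k := by omega
      have := Nat.mul_le_mul_left (2 * n) h4
      omega
  rcases hk1 with rfl | rfl
  · have hn35 : n ≤ 35 := by omega
    have hs1 : s = 2 * n + 1 := by omega
    subst hs1
    have hp := hs.prime
    obtain ⟨g1, g2⟩ := hg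
    clear hk h1 h2 hlt
    interval_cases n <;> first
      | omega
      | (exfalso; revert hp; norm_num; done)
      | (exfalso
         have := (hs.dvd_iff 23).1 (by decide +kernel)
         revert this
         decide)
      | (exfalso
         have := (hs.dvd_iff 29).1 (by decide +kernel)
         revert this
         decide)
      | (exfalso
         have := (hs.dvd_iff 22).1 (by decide +kernel)
         revert this
         decide)
      | (exfalso
         have := (hs.dvd_iff 35).1 (by decide +kernel)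
         revert this
         decide)
  · have : n = 17 := by omega
    subst this
    have : s = 69 := by omega
    subst this
    revert h1 hs
    intro hs _
    have := hs.prime
    revert this
    norm_num

end Cfsg.Agent.H977.Mn
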