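import Cfsg.Agent.H977.MnL

/-!
# Cross characteristic elimination for `L = ²D_n(3)`, `n ≥ 17` odd: the classical groups (helper977, for S3477)

The file `H420/CrossCls` for the minus type.
-/

set_option autoImplicit false

namespace Cfsg.Agent.H977.Mn

open Cfsg Cfsg.Agent.H436 Cfsg.Agent.OrdDiv Cfsg.Agent.H72 Cfsg.Agent.H420.QR

universe u v

section

variable {F : Type v} [Field F] [Fintype F] {n : ℕ} {a b : F} {S : Type u} [Group S]

theorem exists_six (h : SHyp (POmega F (quadFormMinus (n - 1) F a b)) S) (hF : Fintype.card F = 3) (hab : Ani a b)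
    (hn : 17 ≤ n) (hodd : n % 2 = 1) :
    ∃ ρ : Finset ℕ, IsCoq S ρ ∧ (∀ r ∈ ρ, 3 < r) ∧ 6 ≤ ρ.card := by
  have h1 := card_TM (n := n) (t := 8) (by omega) (by omega) hodd
  obtain ⟨ρ, h2, h3, h4⟩ := max0 h hF hab (by omega) (by omega)
  exact ⟨ρ, h2, h3, by omega⟩

/-- **Elimination of a classical group of characteristic `r₀ ≠ 3`.** -/
theorem no_fam (h : SHyp (POmega F (quadFormMinus (n - 1) F a b)) S) (hF : Fintype.card F = 3) (hab : Ani a b)
    (hn : 17 ≤ n) (hodd : n % 2 = 1) {r₀ : ℕ} (hr : r₀.Prime) (h3 : r₀ ≠ 3) (hfam : Fam S r₀) : False := by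
  by_cases h2 : r₀ = 2
  · rcases hfam.two h2 with h4 | h4 | h4
    · exact no_31 h hF hab hn hodd h4
    · exact no_43 h hF hab hn hodd h4
    · exact no_17 h hF hab hn hodd h4
  have h3' : 3 < r₀ := by
    have := hr.two_le
    omega
  by_cases h5 : 5 ≤ eta (e3 r₀)
  · have hok := okm h hF hab (by omega) hr h3' (hfam.dvd h3')
    have h6 := card_TN (n := n) (t := 4) (K := e3 r₀) (by omega) (by omega) hodd hok (by omega)
    obtain ⟨ρ, h7, h8, h9, h11⟩ := maxx h hF hab (by omega) hr h3' (hfam.dvd h3') (by omega)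
    have := hfam.own h3' ρ h7 h8 h9
    omega
  · rcases small_eta hr h3' (by omega) with h6 | h6 | h6 | h6
    · exact no_31 h hF hab hn hodd (hfam.five h6)
    · exact no_43 h hF hab hn hodd (hfam.seven h6)
    · exact no_17 h hF hab hn hodd (hfam.thirteen h6)
    · exact no_29 h hF hab hn hodd (hfam.fortyone h6)

/-- the reduction to a prime power -/
theorem of_prime_pow (h : SHyp (POmega F (quadFormMinus (n - 1) F a b)) S) (hF : Fintype.card F = 3) (hab : Ani a b)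
    (hn : 17 ≤ n) (hodd : n % 2 = 1) {q : ℕ} (hq : IsPrimePow q) (hfam : ∀ (r₀ f : ℕ), r₀.Prime → f ≠ 0 →
      q = r₀ ^ f → r₀ ≠ 3 → Fam S r₀) : ∃ f : ℕ, f ≠ 0 ∧ q = 3 ^ f := by
  obtain ⟨p, k, hp, hk, hpk⟩ := hq
  have hp' : p.Prime := hp.nat_prime
  by_cases h3 : p = 3
  · exact ⟨k, by omega, by rw [← hpk, h3]⟩
  · exact (no_fam h hF hab hn hodd hp' h3 (hfam p k hp' (by omega) hpk.symm h3)).elim

theorem cross_psl (h : SHyp (POmega F (quadFormMinus (n - 1) F a b)) S) (hF : Fintype.card F = 3) (hab : Ani a b)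
    (hn : 17 ≤ n) (hodd : n % 2 = 1) {m q : ℕ} (hg : IsNamed (.psl m q) S) : ∃ f : ℕ, f ≠ 0 ∧ q = 3 ^ f := by
  obtain ⟨F', _, _, hF', ⟨e⟩⟩ := hg.real
  obtain ⟨hm, -, hq⟩ := hg.cond
  obtain ⟨ρ, h1, h2, h3⟩ := exists_six h hF hab hn hodd
  have hm9 := rank_psl hm e h1 h2 h3
  exact of_prime_pow h hF hab hn hodd hq fun r₀ f hr hf hqf _ => fam_psl hr hf (hF'.trans hqf) e hm9

theorem cross_psu (h : SHyp (POmega F (quadFormMinus (n - 1) F a b)) S) (hF : Fintype.card F = 3) (hab : Ani a b)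
    (hn : 17 ≤ n) (hodd : n % 2 = 1) {m q : ℕ} (hg : IsNamed (.psu m q) S) : ∃ f : ℕ, f ≠ 0 ∧ q = 3 ^ f := by
  obtain ⟨F', _, _, hF', ⟨e⟩⟩ := hg.real
  obtain ⟨hm, -, hq⟩ := hg.cond
  obtain ⟨ρ, h1, h2, h3⟩ := exists_six h hF hab hn hodd
  have hm9 := rank_psu hF' hm e h1 h2 h3
  refine of_prime_pow h hF hab hn hodd hq fun r₀ f hr hf hqf _ => ?_
  subst hqf
  exact fam_psu hr hf hF' e hm9

theorem cross_psp (h : SHyp (POmega F (quadFormMinus (n - 1) F a b)) S) (hF : Fintype.card F = 3) (hab : Ani a b)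
    (hn : 17 ≤ n) (hodd : n % 2 = 1) {m q : ℕ} (hg : IsNamed (.psp m q) S) : ∃ f : ℕ, f ≠ 0 ∧ q = 3 ^ f := by
  obtain ⟨F', _, _, hF', ⟨e⟩⟩ := hg.real
  obtain ⟨hm, -, hq⟩ := hg.cond
  obtain ⟨ρ, h1, h2, h3⟩ := exists_six h hF hab hn hodd
  have hm5 := rank_sp hm e h1 h2 h3
  refine of_prime_pow h hF hab hn hodd hq fun r₀ f hr hf hqf _ => ?_
  refine fam_sp hr hf (hF'.trans hqf) ((wc_sp hm).congr e) ?_ hm5
  intro x hx hx3 hd
  have h4 : Nat.gcd 2 (q - 1) * Nat.card S = q ^ (m ^ 2) * prB q m := hg.eq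
  have h5 : x ∣ Nat.gcd 2 (q - 1) * Nat.card S := by
    rw [h4]
    refine Dvd.dvd.mul_left (dvd_prB (i := 4) (by omega) ?_) _
    rw [hqf]
    exact dvd_pow_sub hd
  exact (hx.dvd_mul.1 h5).resolve_left (not_dvd_gcd_two hx3)

theorem cross_oodd (h : SHyp (POmega F (quadFormMinus (n - 1) F a b)) S) (hF : Fintype.card F = 3) (hab : Ani a b)
    (hn : 17 ≤ n) (hodd : n % 2 = 1) {m q : ℕ} (hg : IsNamed (.oodd m q) S) : ∃ f : ℕ, f ≠ 0 ∧ q = 3 ^ f := by
  obtain ⟨F', _, _, hF', ⟨e⟩⟩ := hg.real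
  obtain ⟨hm, ho, hq⟩ := hg.cond
  obtain ⟨ρ, h1, h2, h3⟩ := exists_six h hF hab hn hodd
  have h2' : (2 : F') ≠ 0 := two_ne_zero_of_odd (by rw [hF']; exact ho)
  have hm5 := rank_odd h2' hm e h1 h2 h3
  refine of_prime_pow h hF hab hn hodd hq fun r₀ f hr hf hqf _ => ?_
  refine fam_sp hr hf (hF'.trans hqf) ((wc_odd h2' hm).congr e) ?_ hm5
  intro x hx hx3 hd
  have h4 : 2 * Nat.card S = q ^ (m ^ 2) * prB q m := hg.eq
  have h5 : x ∣ 2 * Nat.card S := by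
    rw [h4]
    refine Dvd.dvd.mul_left (dvd_prB (i := 4) (by omega) ?_) _
    rw [hqf]
    exact dvd_pow_sub hd
  refine (hx.dvd_mul.1 h5).resolve_left fun h6 => ?_
  have := Nat.le_of_dvd (by norm_num) h6
  omega

theorem cross_oplus (h : SHyp (POmega F (quadFormMinus (n - 1) F a b)) S) (hF : Fintype.card F = 3) (hab : Ani a b)
    (hn : 17 ≤ n) (hodd : n % 2 = 1) {m q : ℕ} (hg : IsNamed (.oplus m q) S) : ∃ f : ℕ, f ≠ 0 ∧ q = 3 ^ f := by
  obtain ⟨F', _, _, hF', ⟨e⟩⟩ := hg.real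
  obtain ⟨hm, hq⟩ := hg.cond
  obtain ⟨ρ, h1, h2, h3⟩ := exists_six h hF hab hn hodd
  have hm6 := rank_plus hm e h1 h2 h3
  refine of_prime_pow h hF hab hn hodd hq fun r₀ f hr hf hqf _ => ?_
  have hW := (wc_plus (F := F') hm).congr e
  rw [Nat.card_eq_fintype_card, hF', hqf] at hW
  refine fam_pm hr hf hW (fun w₀ => by omega) ?_ ?_ hm6
  · intro hr3 s hs hs3 hsr he
    have : Fact r₀.Prime := ⟨hr⟩
    have : CharP F' r₀ := by
      obtain ⟨p, hp⟩ := CharP.exists F'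
      have hpp : p.Prime := CharP.char_is_prime F' p
      obtain ⟨k, -, hk⟩ := FiniteField.card F' p
      have h5 : r₀ ∣ p ^ (k : ℕ) := by
        rw [← hk, hF', hqf]
        exact dvd_pow_self _ hf
      rwa [(Nat.prime_dvd_prime_iff_eq hr hpp).1 (hr.dvd_of_dvd_pow h5)]
    obtain ⟨g, hg'⟩ := Task106.plus_char (F := F') (p := r₀) hr (by omega) hm hs (by omega) hsr
      (by rw [Nat.card_eq_fintype_card, hF', hqf]; exact he)
    exact ⟨e.symm g, by rw [MulEquiv.orderOf_eq, hg']⟩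
  · intro x hx hx3 hd
    have h4 : Nat.gcd 4 (q ^ m - 1) * Nat.card S = q ^ (m * (m - 1)) * ((q ^ m - 1) * prB q (m - 1)) := hg.eq
    have h5 : x ∣ Nat.gcd 4 (q ^ m - 1) * Nat.card S := by
      rw [h4]
      refine Dvd.dvd.mul_left (Dvd.dvd.mul_left (dvd_prB (i := 4) (by omega) ?_) _) _
      rw [hqf]
      exact dvd_pow_sub hd
    exact (hx.dvd_mul.1 h5).resolve_left (not_dvd_gcd_four hx hx3)

theorem cross_ominus (h : SHyp (POmega F (quadFormMinus (n - 1) F a b)) S) (hF : Fintype.card F = 3) (hab : Ani a b)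
    (hn : 17 ≤ n) (hodd : n % 2 = 1) {m q : ℕ} (hg : IsNamed (.ominus m q) S) : ∃ f : ℕ, f ≠ 0 ∧ q = 3 ^ f := by
  obtain ⟨F', _, _, a', b', hF', hab', ⟨e⟩⟩ := hg.real
  obtain ⟨hm, hq⟩ := hg.cond
  obtain ⟨ρ, h1, h2, h3⟩ := exists_six h hF hab hn hodd
  have hm6 := rank_minus hm hab' e h1 h2 h3
  refine of_prime_pow h hF hab hn hodd hq fun r₀ f hr hf hqf _ => ?_
  have hW := (wc_minus (F := F') hm hab').congr e
  rw [Nat.card_eq_fintype_card, hF', hqf] at hW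
  refine fam_pm hr hf hW (fun w₀ => by omega) ?_ ?_ hm6
  · intro hr3 s hs hs3 hsr he
    have : Fact r₀.Prime := ⟨hr⟩
    have : CharP F' r₀ := by
      obtain ⟨p, hp⟩ := CharP.exists F'
      have hpp : p.Prime := CharP.char_is_prime F' p
      obtain ⟨k, -, hk⟩ := FiniteField.card F' p
      have h5 : r₀ ∣ p ^ (k : ℕ) := by
        rw [← hk, hF', hqf]
        exact dvd_pow_self _ hf
      rwa [(Nat.prime_dvd_prime_iff_eq hr hpp).1 (hr.dvd_of_dvd_pow h5)]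
    obtain ⟨g, hg'⟩ := Task106.minus_char (F := F') (p := r₀) hr (by omega) hm hab' hs (by omega) hsr
      (by rw [Nat.card_eq_fintype_card, hF', hqf]; exact he)
    exact ⟨e.symm g, by rw [MulEquiv.orderOf_eq, hg']⟩
  · intro x hx hx3 hd
    have h4 : Nat.gcd 4 (q ^ m + 1) * Nat.card S = q ^ (m * (m - 1)) * ((q ^ m + 1) * prB q (m - 1)) := hg.eq
    have h5 : x ∣ Nat.gcd 4 (q ^ m + 1) * Nat.card S := by
      rw [h4]
      refine Dvd.dvd.mul_left (Dvd.dvd.mul_left (dvd_prB (i := 4) (by omega) ?_) _) _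
      rw [hqf]
      exact dvd_pow_sub hd
    exact (hx.dvd_mul.1 h5).resolve_left (not_dvd_gcd_four hx hx3)

end

end Cfsg.Agent.H977.Mn
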