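import Cfsg.Agent.H977.MnBase
import Cfsg.Agent.H977.MnCls
import Cfsg.Agent.H977.DpPslTwo
import Cfsg.Agent.H168.ExcCover
import Cfsg.Agent.H168.TwCover
import Cfsg.Agent.H168.TwF4Cover

/-!
# Cross characteristic elimination for `L = ²D_n(3)`, `n ≥ 17` odd (helper977, for S3477)

`cross_big` : `S` is of Lie type over a field of characteristic three.
-/

set_option autoImplicit false

namespace Cfsg.Agent.H977.Mn

open Cfsg Cfsg.Agent.H436 Cfsg.Agent.OrdDiv Cfsg.Agent.H72 Cfsg.Agent.H420.QR Cfsg.Agent.H376.Coc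
open Cfsg.Agent.H977.Dp (dvd_sub_iff orderOf_of_prim prim_of_orderOf prim_pos prim_lt prim_dvd_sub prim_of_pow
  prim103 cover_coc)
open Cfsg.Agent.H94

universe u v

theorem spor_dvd : ∀ x ∈ spor, x.2 ∣ (Nat.factorial 71) ^ 46 := by decide +kernel

/-- a prime `> 71` does not divide the order of a sporadic group -/
theorem no_spor {S : Type u} [Group S] {s : ℕ} (hs : s.Prime) (h72 : 72 ≤ s) (hd : s ∣ Nat.card S) {g : Grp}
    (hc : Nat.card S = ordN g) (hg : g ∈ spor.map (fun x => x.1)) : False := by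
  obtain ⟨x, hx, rfl⟩ := List.mem_map.1 hg
  rw [hc.trans (spor_ord x hx)] at hd
  have := (hs.dvd_factorial).1 (hs.dvd_of_dvd_pow (hd.trans (spor_dvd x hx)))
  omega

theorem prim101917 : Prim 3 38 101917 := by
  refine prim_of_pow (by norm_num) (by norm_num) (by norm_num) (by norm_num) (by decide +kernel) ?_
  intro p hp hd
  rcases hp.dvd_mul.1 (show p ∣ 2 * 19 from hd) with h | h
  · obtain rfl := (Nat.prime_dvd_prime_iff_eq hp Nat.prime_two).1 h
    decide +kernel
  · obtain rfl := (Nat.prime_dvd_prime_iff_eq hp (by norm_num)).1 h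
    decide +kernel

section

variable {F : Type v} [Field F] [Fintype F] {n : ℕ} {a b : F} {S : Type u} [Group S]

theorem no_E8 (h : SHyp (POmega F (quadFormMinus (n - 1) F a b)) S) (hF : Fintype.card F = 3) (hab : Ani a b)
    (hn : 17 ≤ n) (hodd : n % 2 = 1) (hA : ¬ Cfsg.Agent.H414.Rad.AltL2 S) {r : ℕ} (hr : Prim 3 (2 * n) r)
    (h15 : ¬ 15 ∣ r - 1) (h20 : ¬ 20 ∣ r - 1) (h24 : ¬ 24 ∣ r - 1) {F' : Type} [Field F'] [Fintype F']
    (e : S ≃* ↥(Lie.chevE8.group F')) : False := by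
  have hc := Nat.card_congr e.toEquiv
  have hd := big h hF hab (by omega) hodd hA (Or.inl rfl) hr
  rw [hc] at hd
  have hod : ∀ m, 0 < m → ¬ m ∣ r - 1 → Cfsg.Agent.H378.ExcAdj.od (Nat.card F') r ≠ m := by
    intro m hm h102 h
    have : Fact (Nat.Prime r) := ⟨hr.prime⟩
    apply h102
    rw [← h]
    apply orderOf_dvd_of_pow_eq_one
    apply ZMod.pow_card_sub_one_eq_one
    intro h0
    rw [Cfsg.Agent.H378.ExcAdj.od, h0] at h
    have h4 := pow_orderOf_eq_one (0 : ZMod r)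
    rw [h, zero_pow hm.ne'] at h4
    exact zero_ne_one h4
  rcases Cfsg.Agent.H378.ExcAdj.adj_E8 F' (r := r) hr.prime hd with h' | h' | h' | h' | h' | h'
  · have := three_lt hr (by omega)
    omega
  · exact not_Adj h hF hab (by omega) hodd (Or.inl rfl) hr (h'.map e.symm.toMonoidHom e.symm.injective)
  · exact hod 15 (by norm_num) h15 h'
  · exact hod 20 (by norm_num) h20 h'
  · exact hod 24 (by norm_num) h24 h'
  · exact hod 30 (by norm_num) (fun h3 => h15 ((by norm_num : 15 ∣ 30).trans h3)) h'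

/-- a coclique of `S` -/
theorem exists_coc (h : SHyp (POmega F (quadFormMinus (n - 1) F a b)) S) (hF : Fintype.card F = 3) (hab : Ani a b)
    (hn : 17 ≤ n) (hodd : n % 2 = 1) : ∃ ρ : Finset ℕ, IsCoc S ρ ∧ (∀ r ∈ ρ, 3 < r) ∧ 12 ≤ ρ.card ∧
      (21 ≤ n → 15 ≤ ρ.card) := by
  have h1 := card_TM (n := n) (t := 8) (by omega) (by omega) hodd
  obtain ⟨ρ, h2, h3, h4⟩ := max0 h hF hab (by omega) (by omega)
  refine ⟨ρ, coc_of_coq h2, h3, by omega, fun h21 => ?_⟩
  have := card_TM (n := n) (t := 10) (by omega) (by omega) hodd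
  omega

theorem no_cover (h : SHyp (POmega F (quadFormMinus (n - 1) F a b)) S) (hF : Fintype.card F = 3) (hab : Ani a b)
    (hn : 17 ≤ n) (hodd : n % 2 = 1) {q c : ℕ} (hq : IsPrimePow q) (hcov : Cover S q c)
    (hc : c ≤ 10 ∨ (21 ≤ n ∧ c ≤ 12)) : False := by
  obtain ⟨ρ, h1, h3, h12, h15⟩ := exists_coc h hF hab hn hodd
  have := cover_coc hq hcov h1 h3
  rcases hc with hc | ⟨h2, hc⟩
  · omega
  · have := h15 h2
    omega

theorem no_alt (h : SHyp (POmega F (quadFormMinus (n - 1) F a b)) S) (hF : Fintype.card F = 3) (hab : Ani a b)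
    (hn : 17 ≤ n) (hodd : n % 2 = 1) (hG : Good n) (hA : ¬ Cfsg.Agent.H414.Rad.AltL2 S) {m : ℕ}
    (e : S ≃* alternatingGroup (Fin m)) : False := by
  have hc := Nat.card_congr e.toEquiv
  obtain ⟨s, hs⟩ := exists_prim (q := 3) (e := 2 * n) (by norm_num) (by omega) (by omega)
  have h72 := large hn hodd hG hs
  have hsm : s ≤ m := alt_dvd_le hs.prime (hc ▸ big h hF hab (by omega) hodd hA (Or.inl rfl) hs)
  have h31 : 31 ∣ Nat.card S := by
    have : Nontrivial (Fin m) := Fin.nontrivial_iff_two_le.2 (by omega)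
    have h3 := two_mul_nat_card_alternatingGroup (α := Fin m)
    rw [Nat.card_perm, Nat.card_fin] at h3
    have h4 : 31 ∣ 2 * Nat.card (alternatingGroup (Fin m)) := by
      rw [h3]
      exact Nat.dvd_factorial (by norm_num) (by omega)
    rw [hc]
    exact (Nat.Coprime.dvd_mul_left (by norm_num)).1 h4
  have h1 := card_TN (n := n) (t := 8) (K := 30) (by omega) (by omega) hodd (by unfold Okm; omega) (by decide)
  obtain ⟨ρ, h2, -, h4, h5⟩ := maxx h hF hab (by omega) (x := 31) (by norm_num) (by norm_num) h31 (by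
    rw [e3_31]
    omega)
  rw [e3_31] at h5
  have := alt_coclique_thirtyOne ((coc_of_coq h2).congr e) h4 (by omega)
  omega

theorem not_altL2 (h : SHyp (POmega F (quadFormMinus (n - 1) F a b)) S) (hF : Fintype.card F = 3) (hab : Ani a b)
    (hn : 17 ≤ n) (hodd : n % 2 = 1) : ¬ Cfsg.Agent.H414.Rad.AltL2 S := by
  obtain ⟨ρ, h1, h3, h12, -⟩ := exists_coc h hF hab hn hodd
  rintro (⟨⟨e⟩⟩ | ⟨F', _, _, -, ⟨e⟩⟩)
  · have hc := Nat.card_congr e.toEquiv
    have hsub : ρ ⊆ Finset.Icc 4 7 := fun x hx => by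
      rw [Finset.mem_Icc]
      exact ⟨h3 x hx, alt_dvd_le (h1.prime x hx) (hc ▸ h1.dvd x hx)⟩
    have := Finset.card_le_card hsub
    rw [Nat.card_Icc] at this
    omega
  · have := (Dp.psl2_coc e h1 h3).1
    omega

/-- **`n ≥ 17`: the characteristic of `S` is three.** -/
theorem cross_big (h : SHyp (POmega F (quadFormMinus (n - 1) F a b)) S) (hF : Fintype.card F = 3) (hab : Ani a b)
    (hn : 17 ≤ n) (hodd : n % 2 = 1) (hG : Good n) {g : Grp} (hg : IsNamed g S) :
    ∃ f : ℕ, f ≠ 0 ∧ H425.Chr.qOf g = 3 ^ f := by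
  have hA := not_altL2 h hF hab hn hodd
  obtain ⟨s, hs⟩ := exists_prim (q := 3) (e := 2 * n) (by norm_num) (by omega) (by omega)
  have h72 := large hn hodd hG hs
  have spr : g ∈ spor.map (fun x => x.1) → False := fun h' =>
    no_spor hs.prime h72 (big h hF hab (by omega) hodd hA (Or.inl rfl) hs) hg.ord h'
  have hg' := hg
  obtain ⟨hr, hcond, heq, hord⟩ := hg
  cases g with
  | alt m =>
    obtain ⟨e⟩ := hr
    exact (no_alt h hF hab hn hodd hG hA e).elim
  | psl m q => exact cross_psl h hF hab hn hodd hg'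
  | psp m q => exact cross_psp h hF hab hn hodd hg'
  | psu m q => exact cross_psu h hF hab hn hodd hg'
  | oodd m q => exact cross_oodd h hF hab hn hodd hg'
  | oplus m q => exact cross_oplus h hF hab hn hodd hg'
  | ominus m q => exact cross_ominus h hF hab hn hodd hg'
  | g2 q =>
    obtain ⟨F', i1, i2, hF', ⟨e⟩⟩ := hr
    exact (no_cover h hF hab hn hodd (q := q) hcond.2
      (hF' ▸ (Cfsg.Agent.H168.ExcCover.g2_cover (F := F')).congr e) (by norm_num)).elim
  | f4 q =>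
    obtain ⟨F', i1, i2, hF', ⟨e⟩⟩ := hr
    exact (no_cover h hF hab hn hodd (q := q) hcond
      (hF' ▸ (Cfsg.Agent.H168.ExcCover.f4_cover (F := F')).congr e) (by norm_num)).elim
  | e6 q =>
    obtain ⟨F', i1, i2, hF', ⟨e⟩⟩ := hr
    exact (no_cover h hF hab hn hodd (q := q) hcond
      (hF' ▸ (Cfsg.Agent.H168.ExcCover.e6_cover (F := F')).congr e) (by norm_num)).elim
  | e7 q =>
    obtain ⟨F', i1, i2, hF', ⟨e⟩⟩ := hr
    exact (no_cover h hF hab hn hodd (q := q) hcond
      (hF' ▸ (Cfsg.Agent.H168.ExcCover.e7_cover (F := F')).congr e) (by norm_num)).elim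
  | e8 q =>
    obtain ⟨F', i1, i2, hF', ⟨e⟩⟩ := hr
    exfalso
    have hc : n = 17 ∨ n = 19 ∨ 21 ≤ n := by omega
    rcases hc with hc | hc | hc
    · refine no_E8 h hF hab hn hodd hA (r := 103) ?_ (by norm_num) (by norm_num) (by norm_num) e
      rw [hc]
      exact prim103
    · refine no_E8 h hF hab hn hodd hA (r := 101917) ?_ (by norm_num) (by norm_num) (by norm_num) e
      rw [hc]
      exact prim101917
    · exact no_cover h hF hab hn hodd (q := q) hcond
        (hF' ▸ (Cfsg.Agent.H168.ExcCover.e8_cover (F := F')).congr e) (Or.inr ⟨hc, by norm_num⟩)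
  | te6 q =>
    obtain ⟨F', i1, i2, hF', ⟨e⟩⟩ := hr
    exact (no_cover h hF hab hn hodd (q := q) hcond
      ((Cfsg.Agent.H168.TwCover.te6_cover (F := F') hF' hcond).congr e) (by norm_num)).elim
  | td4 q =>
    obtain ⟨F', i1, i2, hF', ⟨e⟩⟩ := hr
    exact (no_cover h hF hab hn hodd (q := q) hcond
      ((Cfsg.Agent.H168.TwCover.td4_cover (F := F') hF' hcond).congr e) (by norm_num)).elim
  | sz q =>
    obtain ⟨F', i1, i2, m, hm, hF', hq, ⟨e⟩⟩ := hr
    exact (no_cover h hF hab hn hodd (q := 2) Nat.prime_two.isPrimePow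
      (Cfsg.Agent.H168.TwF4Cover.cover_suzuki ⟨F', i1, i2, m, hm, by rw [hF', hq], ⟨e⟩⟩) (by norm_num)).elim
  | ree q =>
    obtain ⟨F', i1, i2, m, hm, hF', hq, ⟨e⟩⟩ := hr
    exact (no_cover h hF hab hn hodd (q := 3) Nat.prime_three.isPrimePow
      (Cfsg.Agent.H168.TwF4Cover.cover_ree ⟨F', i1, i2, m, hm, by rw [hF', hq], ⟨e⟩⟩) (by norm_num)).elim
  | tf4 q =>
    obtain ⟨F', i1, i2, m, hm, hF', hq, ⟨e⟩⟩ := hr
    exact (no_cover h hF hab hn hodd (q := 2) Nat.prime_two.isPrimePow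
      ((Cfsg.Agent.H168.TwF4Cover.tf4_cover (F := F') (by rw [hF', hq])).congr e) (by norm_num)).elim
  | _ => exact (spr (by decide)).elim

end

end Cfsg.Agent.H977.Mn
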