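import Cfsg.Agent.H977.MnBase
import Cfsg.Agent.H420.CrossFam

/-!
# Primes with the same order modulo the characteristic (helper977, for S3477)

`dvd_of_same` : `S` of Lie type over the field with `p ^ f` elements, not a Suzuki group, `w`, `x ≥ 5` primes modulo which
`p` has the same order: `w ∣ |S|` implies `x ∣ |S|`.
-/

set_option autoImplicit false

namespace Cfsg.Agent.H977.Mn

open Cfsg Cfsg.Agent.H436 Cfsg.Agent.OrdDiv Cfsg.Agent.H72 Cfsg.Agent.H420.QR Cfsg.Agent.H425.Chr

universe u

section

variable {S : Type u} [Group S] {x q : ℕ}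

theorem not_dvd_gcd {x k m : ℕ} (hk : 0 < k) (h : k < x) : ¬ x ∣ Nat.gcd k m := fun hd => by
  have := Nat.le_of_dvd hk (hd.trans (Nat.gcd_dvd_left _ _))
  omega

theorem sub_dvd_two (q : ℕ) : q ^ 2 - 1 = (q + 1) * (q - 1) := by
  have := Nat.sq_sub_sq q 1
  rwa [one_pow] at this

theorem dvd_or {x q : ℕ} (hx : x.Prime) (h : x ∣ q ^ 2 - 1) : x ∣ q - 1 ∨ x ∣ q + 1 := by
  rw [sub_dvd_two] at h
  exact (hx.dvd_mul.1 h).symm

theorem not_both {x q : ℕ} (hq : 1 ≤ q) (hx : 5 ≤ x) (h1 : x ∣ q - 1) (h2 : x ∣ q + 1) : False := by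
  have h3 := Nat.dvd_sub h2 h1
  have := Nat.le_of_dvd (by omega) h3
  omega

/-- `x ∣ q ^ 2 - 1` -/
theorem dvd_small {g : Grp} (hg : IsNamed g S) (hqg : qOf g = q) (hq : 2 ≤ q) (hsz : ∀ q, g ≠ .sz q) (hx : x.Prime)
    (hx5 : 5 ≤ x) (h : x ∣ q ^ 2 - 1) : x ∣ Nat.card S := by
  have key : ∀ {d c M : ℕ}, d * c = M → ¬ x ∣ d → x ∣ M → x ∣ c := fun h1 h2 h3 =>
    (hx.dvd_mul.1 (h1 ▸ h3)).resolve_left h2
  have heq := hg.eq
  have hsub := sub_dvd_two q
  have hB : ∀ {m : ℕ}, 1 ≤ m → x ∣ prB q m := fun {m} hm => dvd_prB (i := 0) (by omega) (by simpa using h)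
  have h1x : ¬ x ∣ 1 := fun h => hx.one_lt.ne' (Nat.dvd_one.1 h)
  have hcond := hg.cond
  cases g with
  | psl m q' =>
    obtain rfl : q' = q := hqg
    change Nat.gcd m (q' - 1) * (q' - 1) * Nat.card S = glN m q' at heq
    rcases Nat.lt_or_ge 3 m with hm | hm
    · rcases dvd_or hx h with h1 | h1
      · obtain ⟨F', _, _, hF', ⟨e⟩⟩ := hg.real
        have hW := (wc_psl (F := F') (n := m) (by omega)).congr e
        rw [hF'] at hW
        refine hW.dvd wL_two hx (by omega) ?_
        rw [AdjPSL.wL, if_pos (Or.inr h1)]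
        omega
      · have h2 : ¬ x ∣ q' - 1 := fun h2 => not_both (by omega) hx5 h2 h1
        refine key heq ?_ ?_
        · rw [hx.dvd_mul]
          rintro (h3 | h3)
          · exact h2 (h3.trans (Nat.gcd_dvd_right _ _))
          · exact h2 h3
        · have h3 : (q' ^ m - q' ^ (m - 2)) ∣ glN m q' := by
            unfold glN
            exact List.dvd_prod (List.mem_map.2 ⟨m - 2, List.mem_range.2 (by omega), rfl⟩)
          refine Dvd.dvd.trans ?_ h3
          have h4 : q' ^ m - q' ^ (m - 2) = q' ^ (m - 2) * (q' ^ 2 - 1) := by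
            rw [Nat.mul_sub, ← pow_add, mul_one, show m - 2 + 2 = m by omega]
          rw [h4]
          exact h.mul_left _
    · have hm2 : 2 ≤ m := hcond.1
      have hq0 : 0 < q' - 1 := by omega
      have hm' : m = 2 ∨ m = 3 := by omega
      rcases hm' with rfl | rfl
      · have h3 : glN 2 q' = (q' ^ 2 - 1) * q' * (q' - 1) := by
          simp only [glN, List.range_succ, List.range_zero, List.nil_append, List.map_append, List.map_cons,
            List.map_nil, List.prod_append, List.prod_cons, List.prod_nil, mul_one, pow_zero, pow_one]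
          rw [show q' ^ 2 - q' = q' * (q' - 1) by rw [Nat.mul_sub, mul_one, pow_two], mul_assoc]
        rw [h3, mul_right_comm] at heq
        exact key (Nat.eq_of_mul_eq_mul_right hq0 heq) (not_dvd_gcd (by norm_num) (by omega)) (h.mul_right _)
      · have h3 : glN 3 q' = (q' ^ 3 - 1) * (q' * (q' ^ 2 - 1)) * q' ^ 2 * (q' - 1) := by
          simp only [glN, List.range_succ, List.range_zero, List.nil_append, List.map_append, List.map_cons,
            List.map_nil, List.prod_append, List.prod_cons, List.prod_nil, mul_one, pow_zero, pow_one]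
          rw [show q' ^ 3 - q' = q' * (q' ^ 2 - 1) by rw [Nat.mul_sub, mul_one]; ring_nf,
            show q' ^ 3 - q' ^ 2 = q' ^ 2 * (q' - 1) by rw [Nat.mul_sub, mul_one]; ring_nf]
          ring
        rw [h3, mul_right_comm] at heq
        exact key (Nat.eq_of_mul_eq_mul_right hq0 heq) (not_dvd_gcd (by norm_num) (by omega))
          (((h.mul_left _).mul_left _).mul_right _)
  | psp m q' =>
    obtain rfl : q' = q := hqg
    exact key heq (not_dvd_gcd (by norm_num) (by omega)) ((hB (by have := hcond.1; omega)).mul_left _)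
  | psu m q' =>
    obtain rfl : q' = q := hqg
    change Nat.gcd m (q' + 1) * (q' + 1) * Nat.card S = q' ^ (m * (m - 1) / 2) * prU q' m at heq
    have hm3 : 3 ≤ m := hcond.1
    rcases Nat.lt_or_ge 3 m with hm | hm
    · rcases dvd_or hx h with h1 | h1
      · have h2 : ¬ x ∣ q' + 1 := fun h2 => not_both (by omega) hx5 h1 h2
        refine key heq ?_ (Dvd.dvd.mul_left ?_ _)
        · rw [hx.dvd_mul]
          rintro (h3 | h3)
          · exact h2 (h3.trans (Nat.gcd_dvd_right _ _))
          · exact h2 h3
        · unfold prU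
          refine Dvd.dvd.trans ?_ (List.dvd_prod (List.mem_map.2 ⟨1, List.mem_range.2 (by omega), rfl⟩))
          exact h
      · obtain ⟨F', _, _, hF', ⟨e⟩⟩ := hg.real
        have hW := (wc_psu hF' (n := m) (by omega)).congr e
        refine hW.dvd wU_two hx (by omega) ?_
        rw [AdjPSU.wU, if_pos (Or.inr h1)]
        omega
    · obtain rfl : m = 3 := by omega
      have h3 : prU q' 3 = (q' ^ 2 - 1) * (q' ^ 3 + 1) * (q' + 1) := by
        simp only [prU, List.range_succ, List.range_zero, List.nil_append, List.map_append, List.map_cons,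
            List.map_nil, List.prod_append, List.prod_cons, List.prod_nil, mul_one]
        norm_num
        ring
      rw [h3, ← mul_assoc, mul_right_comm] at heq
      exact key (Nat.eq_of_mul_eq_mul_right (by omega) heq) (not_dvd_gcd (by norm_num) (by omega))
          ((h.mul_right _).mul_left _)
  | oodd m q' =>
    obtain rfl : q' = q := hqg
    have heq' : 2 * Nat.card S = q' ^ (m ^ 2) * prB q' m := heq
    refine key heq' (fun h => ?_) ((hB (by have := hcond.1; omega)).mul_left _)
    have := Nat.le_of_dvd (by norm_num) h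
    omega
  | oplus m q' =>
    obtain rfl : q' = q := hqg
    exact key heq (not_dvd_gcd (by norm_num) (by omega)) (((hB (by have := hcond.1; omega)).mul_left _).mul_left _)
  | ominus m q' =>
    obtain rfl : q' = q := hqg
    exact key heq (not_dvd_gcd (by norm_num) (by omega)) (((hB (by have := hcond.1; omega)).mul_left _).mul_left _)
  | g2 q' =>
    obtain rfl : q' = q := hqg
    exact key heq h1x ((h.mul_right _).mul_left _)
  | f4 q' =>
    obtain rfl : q' = q := hqg
    exact key heq h1x ((((h.mul_right _).mul_right _).mul_right _).mul_left _)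
  | e6 q' =>
    obtain rfl : q' = q := hqg
    exact key heq (not_dvd_gcd (by norm_num) (by omega))
      ((((((h.mul_right _).mul_right _).mul_right _).mul_right _).mul_right _).mul_left _)
  | e7 q' =>
    obtain rfl : q' = q := hqg
    exact key heq (not_dvd_gcd (by norm_num) (by omega))
      (((((((h.mul_right _).mul_right _).mul_right _).mul_right _).mul_right _).mul_right _).mul_left _)
  | e8 q' =>
    obtain rfl : q' = q := hqg
    exact key heq h1x
      ((((((((h.mul_right _).mul_right _).mul_right _).mul_right _).mul_right _).mul_right _).mul_right _).mul_left _)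
  | te6 q' =>
    obtain rfl : q' = q := hqg
    exact key heq (not_dvd_gcd (by norm_num) (by omega))
      ((((((h.mul_right _).mul_right _).mul_right _).mul_right _).mul_right _).mul_left _)
  | td4 q' =>
    obtain rfl : q' = q := hqg
    exact key heq h1x (((h.mul_right _).mul_right _).mul_left _)
  | sz q' => exact absurd rfl (hsz q')
  | ree q' =>
    obtain rfl : q' = q := hqg
    refine key heq h1x (Dvd.dvd.mul_left ?_ _)
    rcases dvd_or hx h with h1 | h1
    · exact h1.mul_right _
    · exact (h1.trans ⟨q' ^ 2 - q' + 1, by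
        have h5 : q' ≤ q' ^ 2 := Nat.le_self_pow (by norm_num) _
        zify [h5]
        ring⟩).mul_left _
  | tf4 q' =>
    obtain rfl : q' = q := hqg
    refine key heq h1x (Dvd.dvd.mul_left ?_ _)
    rcases dvd_or hx h with h1 | h1
    · exact ((h1.mul_right _).mul_right _).mul_right _
    · exact (((h1.trans ⟨q' ^ 2 - q' + 1, by
        have h5 : q' ≤ q' ^ 2 := Nat.le_self_pow (by norm_num) _
        zify [h5]
        ring⟩).mul_left _).mul_right _).mul_right _
  | _ => exfalso; change 0 = q at hqg; omega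

/-- **Primes of the same class.** -/
theorem dvd_of_same {g : Grp} (hg : IsNamed g S) {p f : ℕ} (hp : p.Prime) (hf : f ≠ 0) (hq : qOf g = p ^ f)
    (hsz : ∀ q, g ≠ .sz q) {w x e : ℕ} (hw : Prim p e w) (hx : Prim p e x) (hx5 : 5 ≤ x)
    (h : w ∣ Nat.card S) : x ∣ Nat.card S := by
  have hq2 : 2 ≤ p ^ f := hp.two_le.trans (Nat.le_self_pow hf p)
  have hw' := prim_quot hf hw
  have hx' := prim_quot hf hx
  rcases Nat.lt_or_ge (e / Nat.gcd e f) 3 with hd | hd
  · refine dvd_small hg hq hq2 hsz hx.prime hx5 ?_
    have h0 : e / Nat.gcd e f ∣ 2 := by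
      have h1 : 0 < e / Nat.gcd e f := Dp.prim_pos (by omega) hx'
      interval_cases (e / Nat.gcd e f) <;> decide
    exact hx'.dvd h0
  · rw [dvd_iff hq2 hd hx' hq hg.eq]
    exact (dvd_iff hq2 hd hw' hq hg.eq).1 h

end

end Cfsg.Agent.H977.Mn
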