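import Cfsg.Agent.H420.CrossRank
import Cfsg.Agent.H425.ChrAd2

/-!
# The prime graph of `²D_n(3)`, `n` odd: classes of primes and cocliques (helper977, for S3477)

The file `H420/CrossL` for the minus type.

* `Okm n k` : the classes of the primes of the order; `dvd_L_iff`;
* `SHyp.coq0`, `SHyp.coqx` : cocliques of `S`;
* `TM n`, `TN n K` : a coclique of classes and its part far from the class `K`; lower bounds.
-/

set_option autoImplicit false

namespace Cfsg.Agent.H977.Mn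

open Cfsg Cfsg.Agent.H436 Cfsg.Agent.OrdDiv Cfsg.Agent.H72 Cfsg.Agent.H420.QR

universe u v

/-- the anisotropic binary forms -/
abbrev Ani {F : Type*} [Field F] (a b : F) : Prop :=
  ∀ z₁ z₂ : F, z₁ ^ 2 + a * z₁ * z₂ + b * z₂ ^ 2 = 0 → z₁ = 0 ∧ z₂ = 0

/-- the classes of the primes of `|²D_n(3)|` -/
def Okm (n k : ℕ) : Prop := (k % 2 = 1 ∧ k ≤ n - 1) ∨ (k % 2 = 0 ∧ k ≤ 2 * n)

instance (n k : ℕ) : Decidable (Okm n k) := by unfold Okm; infer_instance

section L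

variable {F : Type v} [Field F] [Fintype F] {n : ℕ} {a b : F}

theorem dvd_L_iff (hF : Fintype.card F = 3) (hab : Ani a b) (hn : 4 ≤ n) {r : ℕ} (hr : r.Prime) (h3 : 3 < r) :
    r ∣ Nat.card (POmega F (quadFormMinus (n - 1) F a b)) ↔ Okm n (e3 r) := by
  rw [H425.Chr.minus_dvd Nat.prime_three hF hn hab (three_le_e3 hr h3) (prim_ee (by norm_num) hr (not_dvd_three h3))]
  exact or_comm

theorem nonadj_of_far (hF : Fintype.card F = 3) (hab : Ani a b) (hn : 4 ≤ n) {r s : ℕ} (hr : r.Prime) (hs : s.Prime)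
    (h3 : 3 < r) (h4 : 3 < s) (hrs : r ≠ s) (h : Far n (e3 r) (e3 s)) :
    ¬ ∃ g : POmega F (quadFormMinus (n - 1) F a b), orderOf g = r * s := by
  have hr3 := three_le_e3 hr h3
  have hs3 := three_le_e3 hs h4
  refine minus_nonadj (hF ▸ by decide) (by omega) hab hr hs (by omega) (by omega) hrs (hF ▸ not_dvd_three h3)
    (hF ▸ not_dvd_three h4) ?_ ?_
  · rw [hF]
    exact h.1
  · rw [hF]
    exact fun ho => h.2 (ho.oddD (by change 0 < e3 r; omega) (by change 0 < e3 s; omega))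

/-- primes chosen in pairwise far classes form a coclique -/
theorem isCoq_image (hF : Fintype.card F = 3) (hab : Ani a b) (hn : 4 ≤ n) (C : Finset ℕ) (f : ℕ → ℕ)
    (hf : ∀ l ∈ C, (f l).Prime ∧ 3 < f l ∧ e3 (f l) = l) (hok : ∀ l ∈ C, Okm n l)
    (hfar : ∀ k ∈ C, ∀ l ∈ C, k ≠ l → Far n k l) :
    IsCoq (POmega F (quadFormMinus (n - 1) F a b)) (C.image f) ∧ (C.image f).card = C.card := by
  refine ⟨⟨?_, ?_, ?_⟩, ?_⟩
  · intro r hr
    obtain ⟨l, hl, rfl⟩ := Finset.mem_image.1 hr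
    exact (hf l hl).1
  · intro r hr
    obtain ⟨l, hl, rfl⟩ := Finset.mem_image.1 hr
    rw [dvd_L_iff hF hab hn (hf l hl).1 (hf l hl).2.1, (hf l hl).2.2]
    exact hok l hl
  · intro r hr s hs hrs
    obtain ⟨k, hk, rfl⟩ := Finset.mem_image.1 hr
    obtain ⟨l, hl, rfl⟩ := Finset.mem_image.1 hs
    refine nonadj_of_far hF hab hn (hf k hk).1 (hf l hl).1 (hf k hk).2.1 (hf l hl).2.1 hrs ?_
    rw [(hf k hk).2.2, (hf l hl).2.2]
    exact hfar k hk l hl fun e => hrs (e ▸ rfl)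
  · refine Finset.card_image_of_injOn fun k hk l hl hkl => ?_
    rw [← (hf k hk).2.2, ← (hf l hl).2.2]
    exact congrArg e3 hkl

variable {S : Type u} [Group S]

theorem okm (h : SHyp (POmega F (quadFormMinus (n - 1) F a b)) S) (hF : Fintype.card F = 3) (hab : Ani a b)
    (hn : 4 ≤ n) {r : ℕ} (hr : r.Prime) (h3 : 3 < r) (hd : r ∣ Nat.card S) : Okm n (e3 r) :=
  (dvd_L_iff hF hab hn hr h3).1 (h.pi r hr hd)

/-- a coclique of `S` from pairwise far classes -/
theorem coq0 (h : SHyp (POmega F (quadFormMinus (n - 1) F a b)) S) (hF : Fintype.card F = 3) (hab : Ani a b)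
    (hn : 4 ≤ n) (C : Finset ℕ)
    (hC : ∀ l ∈ C, 3 ≤ l) (hok : ∀ l ∈ C, Okm n l) (hfar : ∀ k ∈ C, ∀ l ∈ C, k ≠ l → Far n k l) (h3 : 3 ≤ C.card) :
    ∃ ρ : Finset ℕ, IsCoq S ρ ∧ (∀ r ∈ ρ, 3 < r) ∧ C.card ≤ ρ.card + 1 := by
  have hex : ∀ l ∈ C, ∃ r : ℕ, r.Prime ∧ 3 < r ∧ e3 r = l := fun l hl => exists_e3 (hC l hl)
  choose! f hf using hex
  obtain ⟨h1, h2⟩ := isCoq_image hF hab hn C f hf hok hfar
  obtain ⟨h4, h5⟩ := h.filter h1 (h2 ▸ h3)
  refine ⟨_, h4, ?_, h2 ▸ h5⟩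
  intro r hr
  obtain ⟨l, hl, rfl⟩ := Finset.mem_image.1 (Finset.mem_filter.1 hr).1
  exact (hf l hl).2.1

/-- a coclique of `S` through `x` -/
theorem coqx (h : SHyp (POmega F (quadFormMinus (n - 1) F a b)) S) (hF : Fintype.card F = 3) (hab : Ani a b)
    (hn : 4 ≤ n) {x : ℕ}
    (hx : x.Prime) (hx3 : 3 < x) (hxS : x ∣ Nat.card S) (C : Finset ℕ)
    (hC : ∀ l ∈ C, 3 ≤ l) (hok : ∀ l ∈ C, Okm n l) (hfar : ∀ k ∈ C, ∀ l ∈ C, k ≠ l → Far n k l)
    (hxC : ∀ l ∈ C, Far n (e3 x) l) (h2 : 2 ≤ C.card) :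
    ∃ ρ : Finset ℕ, IsCoq S ρ ∧ (∀ r ∈ ρ, 3 < r) ∧ x ∈ ρ ∧ C.card ≤ ρ.card := by
  classical
  have hex : ∀ l ∈ C, ∃ r : ℕ, r.Prime ∧ 3 < r ∧ e3 r = l := fun l hl => exists_e3 (hC l hl)
  choose! f hf using hex
  have h0 := three_le_e3 hx hx3
  have hxn : e3 x ∉ C := fun hm => (hxC _ hm).2 (Or.inl ⟨Nat.mod_self _, by rw [Nat.div_self (by omega)]⟩)
  have hne : ∀ l ∈ C, l ≠ e3 x := fun l hl e => hxn (e ▸ hl)
  have hf' : ∀ l ∈ insert (e3 x) C, ((fun l => if l = e3 x then x else f l) l).Prime ∧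
      3 < (fun l => if l = e3 x then x else f l) l ∧ e3 ((fun l => if l = e3 x then x else f l) l) = l := by
    intro l hl
    dsimp only
    split_ifs with hlx
    · exact ⟨hx, hx3, hlx.symm⟩
    · exact hf l ((Finset.mem_insert.1 hl).resolve_left hlx)
  obtain ⟨h1, h3⟩ := isCoq_image hF hab hn (insert (e3 x) C) (fun l => if l = e3 x then x else f l) hf' (by
      intro l hl
      rcases Finset.mem_insert.1 hl with rfl | hl
      · exact okm h hF hab hn hx hx3 hxS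
      · exact hok l hl) (by
      intro k hk l hl hkl
      rcases Finset.mem_insert.1 hk with rfl | hk <;> rcases Finset.mem_insert.1 hl with rfl | hl
      · exact absurd rfl hkl
      · exact hxC l hl
      · exact (hxC k hk).symm
      · exact hfar k hk l hl hkl)
  rw [Finset.card_insert_of_notMem hxn] at h3
  obtain ⟨h4, h5⟩ := h.filter h1 (by omega)
  refine ⟨_, h4, ?_, ?_, by omega⟩
  · intro r hr
    obtain ⟨l, hl, rfl⟩ := Finset.mem_image.1 (Finset.mem_filter.1 hr).1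
    exact (hf' l hl).2.1
  · rw [Finset.mem_filter, Finset.mem_image]
    exact ⟨⟨e3 x, Finset.mem_insert_self _ _, if_pos rfl⟩, hxS⟩

end L

/-! ### the classes `TM n` -/

/-- the classes `l` with `2 eta l > n` -/
def TM (n : ℕ) : Finset ℕ := (Finset.range (2 * n + 1)).filter fun l => 3 ≤ l ∧ Okm n l ∧ n < 2 * eta l

/-- its part far from `K` -/
def TN (n K : ℕ) : Finset ℕ := (TM n).filter fun l => Far n K l

theorem Okm.eta_le {n k : ℕ} (h : Okm n k) : eta k ≤ n := by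
  unfold Okm at h
  have := eta_cases k
  omega

theorem mem_TM {n l : ℕ} : l ∈ TM n ↔ 3 ≤ l ∧ Okm n l ∧ n < 2 * eta l := by
  rw [TM, Finset.mem_filter, Finset.mem_range]
  refine ⟨fun h => h.2, fun h => ⟨?_, h⟩⟩
  obtain ⟨h1, h2, -⟩ := h
  unfold Okm at h2
  omega

theorem far_TM {n k l : ℕ} (hk : k ∈ TM n) (hl : l ∈ TM n) (hkl : k ≠ l) : Far n k l := by
  obtain ⟨h1, h2, h3⟩ := mem_TM.1 hk
  obtain ⟨h4, h5, h6⟩ := mem_TM.1 hl
  have h7 := h2.eta_le
  have h8 := h5.eta_le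
  refine ⟨by omega, fun h => ?_⟩
  rcases oddD_cases h (by omega) (by omega) with h9 | h9 | h9
  · exact hkl h9
  · omega
  · omega

section window

/-- the classes of the top `t` -/
def WW (n t : ℕ) : Finset ℕ := (Finset.range (t + 1)).image (fun j => 2 * (n - j)) ∪
  (Finset.Ico ((n - t) / 2) (n / 2)).image (fun i => 2 * i + 1)

theorem mem_WW {n t l : ℕ} (ht : 2 * t < n) (h3 : 3 ≤ n - t) (h : l ∈ WW n t) :
    Okm n l ∧ n - t ≤ eta l ∧ 3 ≤ l := by
  rw [WW, Finset.mem_union, Finset.mem_image, Finset.mem_image] at h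
  unfold Okm
  rcases h with ⟨j, hj, rfl⟩ | ⟨j, hj, rfl⟩
  · rw [Finset.mem_range] at hj
    rw [eta_even (by omega)]
    omega
  · rw [Finset.mem_Ico] at hj
    rw [eta_odd (by omega)]
    omega

theorem card_WW {n t : ℕ} (ht : 2 * t < n) (hn : n % 2 = 1) : t + 1 + t / 2 ≤ (WW n t).card := by
  rw [WW, Finset.card_union_of_disjoint]
  · rw [Finset.card_image_of_injOn, Finset.card_image_of_injective, Finset.card_range, Nat.card_Ico]
    · omega
    · intro a b hab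
      dsimp only at hab
      omega
    · intro a ha b hb hab
      have ha' := Finset.mem_range.1 ha
      have hb' := Finset.mem_range.1 hb
      dsimp only at hab
      omega
  · rw [Finset.disjoint_left]
    intro x hx hx'
    obtain ⟨a, -, ha⟩ := Finset.mem_image.1 hx
    obtain ⟨b, -, hb⟩ := Finset.mem_image.1 hx'
    omega

theorem WW_subset {n t : ℕ} (ht : 2 * t < n) (hn : 5 ≤ n) : WW n t ⊆ TM n := by
  intro l hl
  obtain ⟨h1, h2, h3⟩ := mem_WW ht (by omega) hl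
  exact mem_TM.2 ⟨h3, h1, by omega⟩

theorem card_TM {n t : ℕ} (ht : 2 * t < n) (hn : 5 ≤ n) (hodd : n % 2 = 1) : t + 1 + t / 2 ≤ (TM n).card :=
  (card_WW ht hodd).trans (Finset.card_le_card (WW_subset ht hn))

theorem card_TN {n t K : ℕ} (ht : 2 * t < n) (hn : 5 ≤ n) (hodd : n % 2 = 1) (hK : Okm n K) (htK : t + 1 ≤ eta K) :
    t + t / 2 ≤ (TN n K).card := by
  have h1 := card_WW ht hodd
  have hsub : ∀ l ∈ WW n t, Okm n l ∧ n - t ≤ eta l ∧ 3 ≤ l := fun l hl => mem_WW ht (by omega) hl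
  have hK3 : 0 < K := by
    rcases Nat.eq_zero_or_pos K with rfl | h
    · rw [eta_even (by norm_num)] at htK
      omega
    · exact h
  have h2 := Finset.card_filter_add_card_filter_not (s := WW n t) (fun l => OddD K l)
  have h3 : ((WW n t).filter fun l => OddD K l).card ≤ 1 := by
    rw [Finset.card_le_one]
    intro a ha b hb
    rw [Finset.mem_filter] at ha hb
    obtain ⟨ha, ha'⟩ := ha
    obtain ⟨hb, hb'⟩ := hb
    obtain ⟨a1, a2, a3⟩ := hsub a ha
    obtain ⟨b1, b2, b3⟩ := hsub b hb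
    have hKn := hK.eta_le
    have key : ∀ {l : ℕ}, 3 ≤ l → n - t ≤ eta l → OddD K l → l % 2 = K % 2 ∧ K ∣ l := by
      intro l h1 h2 h3
      rcases oddD_cases h3 hK3 (by omega) with h4 | h4 | h4
      · exact ⟨by rw [h4], h4 ▸ dvd_rfl⟩
      · exact ⟨h4.1, h4.2.2⟩
      · omega
    obtain ⟨a4, a5⟩ := key a3 a2 ha'
    obtain ⟨b4, b5⟩ := key b3 b2 hb'
    have key2 : ∀ {a b : ℕ}, Okm n a → Okm n b → n - t ≤ eta a → n - t ≤ eta b → a % 2 = K % 2 → b % 2 = K % 2 →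
        K ∣ a → K ∣ b → a ≤ b → a = b := by
      intro a b a1 b1 a2 b2 a4 b4 a5 b5 hab
      have h5 := Nat.dvd_sub b5 a5
      by_contra hne
      have h6 := Nat.le_of_dvd (by omega) h5
      have e1 := eta_cases a
      have e2 := eta_cases b
      have e3 := eta_cases K
      unfold Okm at a1 b1
      omega
    rcases Nat.le_total a b with hab | hab
    · exact key2 a1 b1 a2 b2 a4 b4 a5 b5 hab
    · exact (key2 b1 a1 b2 a2 b4 a4 b5 a5 hab).symm
  have h4 : ((WW n t).filter fun l => ¬ OddD K l) ⊆ TN n K := by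
    intro l hl
    obtain ⟨hl1, hl2⟩ := Finset.mem_filter.1 hl
    obtain ⟨h5, h6, h7⟩ := hsub l hl1
    exact Finset.mem_filter.2 ⟨mem_TM.2 ⟨h7, h5, by omega⟩, by omega, hl2⟩
  have h5 := Finset.card_le_card h4
  omega

end window

/-! ### cocliques of `S` from `TM n` and `TN n K` -/

section S

variable {F : Type v} [Field F] [Fintype F] {n : ℕ} {a b : F} {S : Type u} [Group S]

theorem max0 (h : SHyp (POmega F (quadFormMinus (n - 1) F a b)) S) (hF : Fintype.card F = 3) (hab : Ani a b)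
    (hn : 4 ≤ n) (h3 : 3 ≤ (TM n).card) :
    ∃ ρ : Finset ℕ, IsCoq S ρ ∧ (∀ r ∈ ρ, 3 < r) ∧ (TM n).card ≤ ρ.card + 1 :=
  coq0 h hF hab hn (TM n) (fun _ hl => (mem_TM.1 hl).1) (fun _ hl => (mem_TM.1 hl).2.1)
    (fun _ hk _ hl hkl => far_TM hk hl hkl) h3

theorem maxx (h : SHyp (POmega F (quadFormMinus (n - 1) F a b)) S) (hF : Fintype.card F = 3) (hab : Ani a b)
    (hn : 4 ≤ n) {x : ℕ} (hx : x.Prime) (hx3 : 3 < x) (hxS : x ∣ Nat.card S) (h2 : 2 ≤ (TN n (e3 x)).card) :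
    ∃ ρ : Finset ℕ, IsCoq S ρ ∧ (∀ r ∈ ρ, 3 < r) ∧ x ∈ ρ ∧ (TN n (e3 x)).card ≤ ρ.card := by
  have hs : ∀ l ∈ TN n (e3 x), l ∈ TM n := fun l hl => (Finset.mem_filter.1 hl).1
  exact coqx h hF hab hn hx hx3 hxS (TN n (e3 x)) (fun l hl => (mem_TM.1 (hs l hl)).1)
    (fun l hl => (mem_TM.1 (hs l hl)).2.1) (fun k hk l hl hkl => far_TM (hs k hk) (hs l hl) hkl)
    (fun l hl => (Finset.mem_filter.1 hl).2) h2

theorem no_test (h : SHyp (POmega F (quadFormMinus (n - 1) F a b)) S) (hF : Fintype.card F = 3) (hab : Ani a b)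
    (hn : 4 ≤ n) {x c : ℕ} (hx : x.Prime) (hx3 : 3 < x) (hT : Test S x c) (hb : 1 ≤ c)
    (hc : Okm n (e3 x) → c < (TN n (e3 x)).card) : False := by
  have h1 := hc (okm h hF hab hn hx hx3 hT.1)
  obtain ⟨ρ, h2, h3, h4, h5⟩ := maxx h hF hab hn hx hx3 hT.1 (by omega)
  have := hT.2 ρ h2 h3 h4
  omega

end S

/-! ### numerics, `n ≥ 17` odd -/

section no

variable {F : Type v} [Field F] [Fintype F] {n : ℕ} {a b : F} {S : Type u} [Group S]

theorem no_31 (h : SHyp (POmega F (quadFormMinus (n - 1) F a b)) S) (hF : Fintype.card F = 3) (hab : Ani a b)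
    (hn : 17 ≤ n) (hodd : n % 2 = 1) : ¬ Test S 31 10 := fun hT => by
  refine no_test h hF hab (by omega) (by norm_num) (by norm_num) hT (by norm_num) fun hok => ?_
  rw [e3_31] at hok ⊢
  have := card_TN (n := n) (t := 8) (K := 30) (by omega) (by omega) hodd hok (by decide)
  omega

theorem no_43 (h : SHyp (POmega F (quadFormMinus (n - 1) F a b)) S) (hF : Fintype.card F = 3) (hab : Ani a b)
    (hn : 17 ≤ n) (hodd : n % 2 = 1) : ¬ Test S 43 9 := fun hT => by
  refine no_test h hF hab (by omega) (by norm_num) (by norm_num) hT (by norm_num) fun hok => ?_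
  rw [e3_43] at hok ⊢
  have := card_TN (n := n) (t := 7) (K := 42) (by omega) (by omega) hodd hok (by decide)
  omega

theorem no_29 (h : SHyp (POmega F (quadFormMinus (n - 1) F a b)) S) (hF : Fintype.card F = 3) (hab : Ani a b)
    (hn : 17 ≤ n) (hodd : n % 2 = 1) : ¬ Test S 29 9 := fun hT => by
  refine no_test h hF hab (by omega) (by norm_num) (by norm_num) hT (by norm_num) fun hok => ?_
  rw [e3_29] at hok ⊢
  have := card_TN (n := n) (t := 7) (K := 28) (by omega) (by omega) hodd hok (by decide)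
  omega

theorem no_17 (h : SHyp (POmega F (quadFormMinus (n - 1) F a b)) S) (hF : Fintype.card F = 3) (hab : Ani a b)
    (hn : 17 ≤ n) (hodd : n % 2 = 1) : ¬ Test S 17 5 := fun hT => by
  refine no_test h hF hab (by omega) (by norm_num) (by norm_num) hT (by norm_num) fun hok => ?_
  rw [e3_17] at hok ⊢
  have := card_TN (n := n) (t := 7) (K := 16) (by omega) (by omega) hodd hok (by decide)
  omega

end no

end Cfsg.Agent.H977.Mn
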