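import Cfsg.Agent.H977.MnSmall
import Cfsg.Agent.H977.MnBig
import Cfsg.Agent.H977.DpMain
import Cfsg.Agent.H977.DpIso
import Cfsg.Agent.H425.EndOdd

/-!
# The simple section of a group with the prime graph of `²D_n(3)`, `n` prime or `n = 2 ^ k + 1` (helper977, for S3477)

* `exists_red` : the reduction;
* `section_iso` : the simple section is isomorphic to `²D_n(3)`.
-/

set_option autoImplicit false

namespace Cfsg.Agent.H977.Mn

open Cfsg Cfsg.Agent.H436 Cfsg.Agent.OrdDiv Cfsg.Agent.H420.QR Cfsg.Agent.H376.Coc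

universe u v

section

variable {F : Type v} [Field F] [Fintype F] {n : ℕ} {a b : F}

theorem odd_of (h5 : 5 ≤ n) (h : n.Prime ∨ ∃ k : ℕ, n = 2 ^ k + 1) : n % 2 = 1 := by
  rcases h with h | ⟨k, rfl⟩
  · rcases h.eq_two_or_odd with h | h
    · omega
    · exact h
  · have hk : k ≠ 0 := by
      rintro rfl
      norm_num at h5
    have h2 : 2 ∣ 2 ^ k := dvd_pow_self 2 hk
    omega

theorem coq_of_coc {G : Type*} [Group G] {ρ : Finset ℕ} (h : IsCoc G ρ) : IsCoq G ρ := ⟨h.prime, h.dvd, h.indep⟩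

/-- a coclique of `L` -/
theorem exists_coq_L (hF : Fintype.card F = 3) (hab : Ani a b) (h5 : 5 ≤ n) (hodd : n % 2 = 1) :
    ∃ ρ : Finset ℕ, IsCoq (POmega F (quadFormMinus (n - 1) F a b)) ρ ∧ 3 ≤ ρ.card := by
  have h1 := card_TM (n := n) (t := 2) (by omega) h5 hodd
  have hex : ∀ l ∈ TM n, ∃ r : ℕ, r.Prime ∧ 3 < r ∧ e3 r = l := fun l hl => exists_e3 (mem_TM.1 hl).1
  choose! f hf using hex
  obtain ⟨h2, h3⟩ := isCoq_image hF hab (by omega) (TM n) f hf (fun l hl => (mem_TM.1 hl).2.1)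
    (fun k hk l hl hkl => far_TM hk hl hkl)
  exact ⟨_, h2, by omega⟩

/-- the reduction -/
theorem exists_red_mn (hF : Fintype.card F = 3) (hab : Ani a b) (h5 : 5 ≤ n) (hodd : n % 2 = 1)
    {G : Type u} [Group G] [Finite G]
    (h : ((∀ r : ℕ, r.Prime → (r ∣ Nat.card (Cfsg.POmega F (Cfsg.quadFormMinus (n - 1) F a b)) ↔ r ∣ Nat.card G)) ∧
      (∀ r s : ℕ, r.Prime → s.Prime → r ≠ s → ((∃ x : (Cfsg.POmega F (Cfsg.quadFormMinus (n - 1) F a b)),
        orderOf x = r * s) ↔ (∃ y : G, orderOf y = r * s))))) :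
    ∃ (K : Subgroup G) (_ : K.Normal) (S : Subgroup (G ⧸ K)) (_ : S.Normal), Red G K S := by
  obtain ⟨ρ, hρ, h3⟩ := exists_coq_L hF hab h5 hodd
  obtain ⟨r0, hr0⟩ := exists_prim (q := 3) (e := 2 * n) (by norm_num) (by omega) (by omega)
  have h0 := three_lt hr0 (by omega)
  obtain ⟨K, hK, S, hS, hR, -⟩ := exists_red_of_same h hρ h3
    ⟨r0, hr0.prime, by omega, dvd_L hF hab h5 (Or.inl rfl) hr0, two_nadj hF hab h5 hodd (Or.inl rfl) hr0⟩
  exact ⟨K, hK, S, hS, hR⟩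

/-- `n = 5` -/
theorem iso_five (hF : Fintype.card F = 3) (hab : Ani a b) {S : Type u} [Group S]
    (H : SHyp (POmega F (quadFormMinus (5 - 1) F a b)) S) {g : Grp} (hg : IsNamed g S) :
    Nonempty (S ≃* POmega F (quadFormMinus (5 - 1) F a b)) := by
  have hp5 : Nat.Prime 5 := by norm_num
  have hpn : 5 = 2 ^ 2 + 1 := by norm_num
  have hyp : Dp.Hyp 5 S := by
    refine ⟨fun s hs h2 h3 hd => (Dp.prime_dvd_L hF (by norm_num) hab hs h2 h3 (H.pi s hs hd)).2.2,
      fun e r s he hr hs hrs hx => Dp.closed hF hp5 le_rfl hpn hab he hr hs hrs (H.adj r s hr.prime hs hrs hx),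
      fun h => by omega, fun _ => ?_⟩
    have h1 := Dp.coc_five (F := F) hF hab
    have h3 : (3 : ℕ) ≤ ({7, 13, 41, 61} : Finset ℕ).card := by decide
    obtain ⟨h6, -⟩ := H.filter (coq_of_coc h1) h3
    exact ⟨coc_of_coq h6, fun r hr s hs => H.coc _ (coq_of_coc h1) h3 r hr s hs⟩
  have hA : (Nonempty (S ≃* alternatingGroup (Fin 7)) ∨ (∃ (F : Type) (_ : Field F) (_ : Fintype F),
      Odd (Fintype.card F) ∧ Nonempty (S ≃* Matrix.ProjectiveSpecialLinearGroup (Fin 2) F))) ∨ Dp.Big 5 S := by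
    rcases H.two with h1 | h1
    · exact Or.inl h1
    · right
      intro e r he hr
      have h3 := three_lt hr (by rcases he with rfl | rfl <;> norm_num)
      exact h1 r hr.prime (by omega) (dvd_L hF hab le_rfl he hr) (two_nadj hF hab le_rfl (by norm_num) he hr)
  obtain ⟨F', i1, i2, a', b', hF', hab', ⟨e⟩⟩ := Dp.elim hp5 le_rfl hpn hg hyp hA
  obtain ⟨f⟩ := Dp.minus_iso (hF'.trans hF.symm) (5 - 1) hab hab'
  exact ⟨e.trans f⟩

/-- **The simple section.** -/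
theorem section_iso (hF : Fintype.card F = 3) (hab : Ani a b) (h5 : 5 ≤ n) (hn : n.Prime ∨ ∃ k : ℕ, n = 2 ^ k + 1)
    {G : Type u} [Group G] [Finite G] {K : Subgroup G} [K.Normal] {S : Subgroup (G ⧸ K)} [S.Normal] (R : Red G K S)
    (h : ((∀ r : ℕ, r.Prime → (r ∣ Nat.card (Cfsg.POmega F (Cfsg.quadFormMinus (n - 1) F a b)) ↔ r ∣ Nat.card G)) ∧
      (∀ r s : ℕ, r.Prime → s.Prime → r ≠ s → ((∃ x : (Cfsg.POmega F (Cfsg.quadFormMinus (n - 1) F a b)),
        orderOf x = r * s) ↔ (∃ y : G, orderOf y = r * s))))) :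
    Nonempty (S ≃* POmega F (quadFormMinus (n - 1) F a b)) := by
  have hodd := odd_of h5 hn
  have H := R.sHyp h
  obtain ⟨g, hg⟩ := R.named
  by_cases hn5 : n = 5
  · subst hn5
    exact iso_five hF hab H hg
  · obtain ⟨f, hf, hq⟩ : ∃ f : ℕ, f ≠ 0 ∧ H425.Chr.qOf g = 3 ^ f := by
      have hG := good_of hn
      by_cases h17 : 17 ≤ n
      · exact cross_big H hF hab h17 hodd hG hg
      · have := hG.2
        exact cross_small H hF hab (by omega) hg
    exact (H425.Fin.minus_end Nat.prime_three (by norm_num) hF h5 hodd hab R h hg hf hq).resolve_right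
      fun h' => hn5 h'.1

end

end Cfsg.Agent.H977.Mn
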