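import Cfsg.Agent.H376.ExcTab
import Cfsg.Agent.H977.DpCoc
import Cfsg.Agent.H425.ChrBase

/-!
# Tables of witnesses (helper977, for S3477)

* `ordB b m l` : `b` has order `prodl l` modulo the prime `m`;
* `tabB n ...` : every prime divisor `p ≠ 3` of `9 ^ j - 1`, `1 ≤ j < n`, or `3 ^ n + 1` has a witness: primes `w`, `x` modulo
  which `p` has the same order, `w` of class `2 n` or `2 (n - 1)`, `x` not dividing these numbers; `tab_spec`.
-/

set_option autoImplicit false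

namespace Cfsg.Agent.H977.MnTab

open Cfsg.Agent.H414.Arith Cfsg.Agent.H436 Cfsg.Agent.H376.ExcTab
open Cfsg.Agent.H977.Dp (prim_of_pow)

/-- the prime factors of `prodl l` -/
def facB (l : List (ℕ × ℕ)) : Bool := l.all fun x => trialPr x.1

/-- `b` has order `prodl l` modulo `m` -/
def ordB (b m : ℕ) (l : List (ℕ × ℕ)) : Bool :=
  (!(Nat.beq (b % m) 0) && Nat.beq (pe m b (prodl l)) 1) &&
    (facB l && l.all fun x => !(Nat.beq (pe m b (prodl l / x.1)) 1))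

theorem prodl_pos : ∀ {l : List (ℕ × ℕ)}, (∀ x ∈ l, (x.1).Prime) → 0 < prodl l
  | [], _ => by simp [prodl]
  | x :: l, hl => by
    have h1 : prodl (x :: l) = x.1 ^ x.2 * prodl l := by simp [prodl]
    rw [h1]
    exact Nat.mul_pos (Nat.pow_pos (hl x List.mem_cons_self).pos)
      (prodl_pos fun y hy => hl y (List.mem_cons_of_mem _ hy))

theorem prim_of_ordB {b m : ℕ} {l : List (ℕ × ℕ)} (hb : 1 ≤ b) (hm : m.Prime) (h : ordB b m l = true) :
    Prim b (prodl l) m := by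
  unfold ordB facB at h
  rw [Bool.and_eq_true, Bool.and_eq_true, Bool.and_eq_true, List.all_eq_true, List.all_eq_true] at h
  obtain ⟨⟨h1, h2⟩, h3, h4⟩ := h
  have hl : ∀ x ∈ l, (x.1).Prime := fun x hx => prime_of_trialPr (h3 x hx)
  refine prim_of_pow hb (prodl_pos hl) hm ?_ ((pe_eq_one hm.one_lt).2 h2) ?_
  · intro hd
    have h5 : Nat.beq (b % m) 0 = true := by rw [Nat.beq_eq]; exact Nat.mod_eq_zero_of_dvd hd
    rw [h5] at h1
    exact absurd h1 (by decide)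
  · intro p hp hd h5
    obtain ⟨x, hx, rfl⟩ := mem_of_dvd_prodl hp hl hd
    have h6 := h4 x hx
    rw [(pe_eq_one hm.one_lt).1 h5] at h6
    exact absurd h6 (by decide)

theorem prim_of_ordB' {b m e : ℕ} (l : List (ℕ × ℕ)) (h : (Nat.beq (prodl l) e && ordB b m l) = true) (hb : 1 ≤ b)
    (hm : m.Prime) : Prim b e m := by
  rw [Bool.and_eq_true, Nat.beq_eq] at h
  rw [← h.1]
  exact prim_of_ordB hb hm h.2

/-- a witness `(p, w, x, l)` -/
def wB (n : ℕ) (ch : List (ℕ × ℕ × List (ℕ × ℕ))) (l1 l2 : List (ℕ × ℕ)) (t : ℕ × ℕ × ℕ × List (ℕ × ℕ)) : Bool :=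
  ((isP ch t.2.1 && isP ch t.2.2.1) && (Nat.ble 5 t.2.2.1 && (ordB 3 t.2.1 l1 || ordB 3 t.2.1 l2))) &&
    ((ordB t.1 t.2.1 t.2.2.2 && ordB t.1 t.2.2.1 t.2.2.2) &&
      ((List.range (n - 1)).all (fun k => !(Nat.beq (pe t.2.2.1 9 (k + 1)) 1)) &&
        !(Nat.beq (pe t.2.2.1 3 n + 1) t.2.2.1)))

/-- the table -/
def tabB (n : ℕ) (ch : List (ℕ × ℕ × List (ℕ × ℕ))) (fs : List (List (ℕ × ℕ))) (ft l1 l2 : List (ℕ × ℕ))
    (ws : List (ℕ × ℕ × ℕ × List (ℕ × ℕ))) (ex : List ℕ) : Bool :=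
  ((Nat.beq (fs.length + 1) n && chainB [] ch) && (Nat.beq (prodl l1) (2 * n) && Nat.beq (prodl l2) (2 * (n - 1)))) &&
    ((fOk 9 ch (ex ++ ws.map fun w => w.1) 0 fs && (Nat.beq (prodl ft) (3 ^ n + 1) &&
      ft.all fun x => isP ch x.1 && (ex ++ ws.map fun w => w.1).any (Nat.beq x.1))) && ws.all (wB n ch l1 l2))

/-- **The table.** -/
theorem tab_spec {n : ℕ} {ch : List (ℕ × ℕ × List (ℕ × ℕ))} {fs : List (List (ℕ × ℕ))} {ft l1 l2 : List (ℕ × ℕ)}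
    {ws : List (ℕ × ℕ × ℕ × List (ℕ × ℕ))} {ex : List ℕ} (h : tabB n ch fs ft l1 l2 ws ex = true) {p : ℕ} (hp : p.Prime)
    (hd : (∃ j, 1 ≤ j ∧ j ≤ n - 1 ∧ p ∣ 9 ^ j - 1) ∨ p ∣ 3 ^ n + 1) :
    p ∈ ex ∨ ∃ w x e, 0 < e ∧ Prim p e w ∧ Prim p e x ∧ (Prim 3 (2 * n) w ∨ Prim 3 (2 * (n - 1)) w) ∧ 5 ≤ x ∧
      (∀ j, 1 ≤ j → j ≤ n - 1 → ¬ x ∣ 9 ^ j - 1) ∧ ¬ x ∣ 3 ^ n + 1 := by
  unfold tabB at h
  simp only [Bool.and_eq_true] at h
  obtain ⟨⟨⟨h1, h2⟩, h3, h4⟩, ⟨h5, h6, h7⟩, h8⟩ := h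
  rw [Nat.beq_eq] at h1 h3 h4 h6
  have hmem : p ∈ ex ++ ws.map fun w => w.1 := by
    rcases hd with ⟨j, hj1, hj2, hd⟩ | hd
    · exact fOk_spec h2 fs 0 h5 p j hp (by omega) (by omega) hd
    · rw [List.all_eq_true] at h7
      rw [← h6] at hd
      obtain ⟨x, hx, hxp⟩ := mem_of_dvd_prodl hp (fun x hx => by
        have h9 := h7 x hx
        rw [Bool.and_eq_true] at h9
        exact prime_of_isP h2 h9.1) hd
      have h9 := h7 x hx
      rw [Bool.and_eq_true] at h9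
      have h10 := any_beq h9.2
      rwa [hxp] at h10
  rcases List.mem_append.1 hmem with hmem | hmem
  · exact Or.inl hmem
  right
  obtain ⟨t, ht, rfl⟩ := List.mem_map.1 hmem
  rw [List.all_eq_true] at h8
  have h9 := h8 t ht
  unfold wB at h9
  simp only [Bool.and_eq_true, Bool.or_eq_true] at h9
  obtain ⟨⟨⟨a1, a2⟩, a3, a4⟩, ⟨a5, a6⟩, a7, a8⟩ := h9
  have hw := prime_of_isP h2 a1
  have hx := prime_of_isP h2 a2
  refine ⟨t.2.1, t.2.2.1, prodl t.2.2.2, ?_, prim_of_ordB hp.one_lt.le hw a5, prim_of_ordB hp.one_lt.le hx a6, ?_,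
    Nat.le_of_ble_eq_true a3, ?_, ?_⟩
  · unfold ordB facB at a5
    rw [Bool.and_eq_true, Bool.and_eq_true, Bool.and_eq_true, List.all_eq_true] at a5
    exact prodl_pos fun x hx => prime_of_trialPr (a5.2.1 x hx)
  · rcases a4 with a4 | a4
    · exact Or.inl (h3 ▸ prim_of_ordB (by norm_num) hw a4)
    · exact Or.inr (h4 ▸ prim_of_ordB (by norm_num) hw a4)
  · intro j hj1 hj2
    rw [List.all_eq_true] at a7
    have h10 := a7 (j - 1) (List.mem_range.2 (by omega))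
    rw [Nat.sub_add_cancel hj1] at h10
    exact not_dvd_of_pe (by norm_num) hx.one_lt h10
  · intro h10
    have h11 : ((3 : ℕ) : ZMod t.2.2.1) ^ n = -1 := by
      have h12 : ((3 ^ n + 1 : ℕ) : ZMod t.2.2.1) = 0 := (ZMod.natCast_eq_zero_iff _ _).2 h10
      rw [Nat.cast_add, Nat.cast_pow, Nat.cast_one] at h12
      exact eq_neg_of_add_eq_zero_left h12
    rw [(pe_eq_neg_one hx.one_lt).1 h11] at a8
    exact absurd a8 (by decide)

end Cfsg.Agent.H977.MnTab
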