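import Cfsg.Agent.H977.T5SporA
import Cfsg.Agent.H505.OddInn
import Cfsg.Agent.OrdDiv.Table

/-!
# The weak pair rows of the sporadic groups and of the Tits group, `p ≥ 5` (helper977, task T5-SP0)
-/

set_option autoImplicit false

namespace Cfsg.Agent.H977.T5Spor

universe u

/-- **The weak pair rows of all sporadic groups and the Tits group from the seventeen big ones.** -/
theorem spor (B : Cfsg.Agent.H533.T5.SporBig.{u}) {K : Type u} [Group K] [Finite K] [IsSimpleGroup K]
    (h : Cfsg.IsSporadicGroup K ∨ Cfsg.Lie.IsoTits K) {p : ℕ} (hp : p.Prime) (h5 : 5 ≤ p) :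
    Cfsg.Agent.H533.T5.WRow p K := by
  refine spor_of Cfsg.Agent.OrdDiv.table B h hp h5 ?_
  rcases h with h | h
  · exact Cfsg.Agent.H505.OddInn.oddInn_sporadic h p hp (by omega)
  · exact Cfsg.Agent.H505.OddInn.oddInn_tits h p hp (by omega)

end Cfsg.Agent.H977.T5Spor
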